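import Groth.Prelude.Def_SekSuwa2
import Mathlib

/-!
# The coordinate ring of `G_{λ,N}` is free with basis the powers of `t`
-/

set_option autoImplicit false
universe u

open Polynomial

namespace Groth.Agent.Lib.SekSuwaOrd

variable {R : Type u} [CommRing R] {lam : R} {N : ℕ}

theorem coeff_aux (i : ℕ) (hi : 0 < i) :
    ((1 + C lam * X : R[X]) ^ N - 1).coeff i = lam ^ i * N.choose i := by
  rw [coeff_sub, coeff_one, if_neg hi.ne', sub_zero,
    show (1 + C lam * X : R[X]) ^ N = ((1 + X) ^ N).comp (C lam * X) by simp, comp_C_mul_X_coeff,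
    coeff_one_add_X_pow, mul_comm]

theorem psiPoly_coeff_eq_zero (h : SekSuwa.DivCond lam N) {i : ℕ} (hi : N < i) :
    (SekSuwa.psiPoly lam N h).coeff i = 0 := by
  refine SekSuwa.cancel_nzd h.pow_nzd ?_
  rw [← coeff_C_mul, SekSuwa.psiPoly_spec h, coeff_aux i (by omega), Nat.choose_eq_zero_of_lt hi]
  simp

theorem psiPoly_monic (h : SekSuwa.DivCond lam N) (hN : 0 < N) : (SekSuwa.psiPoly lam N h).Monic := by
  refine monic_of_natDegree_le_of_coeff_eq_one N ?_ ?_
  · exact natDegree_le_iff_coeff_eq_zero.mpr fun i hi => psiPoly_coeff_eq_zero h hi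
  · refine SekSuwa.cancel_nzd h.pow_nzd ?_
    rw [← coeff_C_mul, SekSuwa.psiPoly_spec h, coeff_aux N hN]
    simp

theorem psiPoly_natDegree [Nontrivial R] (h : SekSuwa.DivCond lam N) (hN : 0 < N) :
    (SekSuwa.psiPoly lam N h).natDegree = N := by
  refine le_antisymm (natDegree_le_iff_coeff_eq_zero.mpr fun i hi => psiPoly_coeff_eq_zero h hi)
    (le_natDegree_of_ne_zero ?_)
  have : (SekSuwa.psiPoly lam N h).coeff N = 1 := by
    refine SekSuwa.cancel_nzd h.pow_nzd ?_
    rw [← coeff_C_mul, SekSuwa.psiPoly_spec h, coeff_aux N hN]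
    simp
  rw [this]
  exact one_ne_zero

variable (h : SekSuwa.DivCond lam N)

theorem u_mul_inv : (1 + lam • (SekSuwa.AK.t : SekSuwa.AK R lam N h)) * SekSuwa.AK.inv = 1 := by
  have e := congrArg (SekSuwa.AK.mkHom R lam N h) (SekSuwa.A.u_mul_inv (R := R) (lam := lam))
  rw [map_mul, map_one, SekSuwa.A.u_def, map_add, map_one, map_mul, AlgHomClass.commutes] at e
  rw [Algebra.smul_def]
  exact e

theorem inv_eq (hN : 0 < N) :
    (SekSuwa.AK.inv : SekSuwa.AK R lam N h) = (1 + lam • SekSuwa.AK.t) ^ (N - 1) := by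
  obtain ⟨n, rfl⟩ : ∃ n, N = n + 1 := ⟨N - 1, by omega⟩
  have h1 : (1 + lam • (SekSuwa.AK.t : SekSuwa.AK R lam (n + 1) h)) ^ (n + 1) * SekSuwa.AK.inv = SekSuwa.AK.inv := by
    rw [SekSuwa.AK.u_pow, one_mul]
  rw [← h1, pow_succ, mul_assoc, u_mul_inv, mul_one]
  rfl

theorem aeval_t_surjective (hN : 0 < N) :
    Function.Surjective (aeval (R := R) (SekSuwa.AK.t : SekSuwa.AK R lam N h)) := by
  intro z
  obtain ⟨w, rfl⟩ := Ideal.Quotient.mk_surjective z
  obtain ⟨v, rfl⟩ := Ideal.Quotient.mk_surjective w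
  let q : MvPolynomial (Fin 2) R →ₐ[R] R[X] :=
    MvPolynomial.aeval fun i => match i with | 0 => X | 1 => (1 + C lam * X) ^ (N - 1)
  refine ⟨q v, ?_⟩
  let m : MvPolynomial (Fin 2) R →ₐ[R] SekSuwa.AK R lam N h :=
    (SekSuwa.AK.mkHom R lam N h : SekSuwa.A R lam →ₐ[R] SekSuwa.AK R lam N h).comp
      (Ideal.Quotient.mkₐ R (SekSuwa.Poly.relIdeal R lam))
  suffices H : (aeval (R := R) (SekSuwa.AK.t : SekSuwa.AK R lam N h)).comp q = m from
    DFunLike.congr_fun H v
  refine MvPolynomial.algHom_ext fun i => ?_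
  fin_cases i
  · rw [AlgHom.comp_apply]
    show aeval _ (q (MvPolynomial.X 0)) = SekSuwa.AK.t
    simp [q]
  · rw [AlgHom.comp_apply]
    show aeval _ (q (MvPolynomial.X 1)) = SekSuwa.AK.inv
    simp [q, inv_eq h hN, Algebra.smul_def]

theorem span_pow_eq_top (hN : 0 < N) :
    Submodule.span R (Set.range fun i : Fin N => (SekSuwa.AK.t : SekSuwa.AK R lam N h) ^ (i : ℕ)) = ⊤ := by
  nontriviality R
  rw [eq_top_iff]
  rintro z -
  obtain ⟨g, rfl⟩ := aeval_t_surjective h hN z
  rw [← modByMonic_add_div g (SekSuwa.psiPoly lam N h), map_add, map_mul, SekSuwa.AK.aeval_t, zero_mul, add_zero]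
  have hd : (g %ₘ SekSuwa.psiPoly lam N h).natDegree < N := by
    have := natDegree_modByMonic_lt g (psiPoly_monic h hN) (fun h1 => by
      have := psiPoly_natDegree h hN
      rw [h1, natDegree_one] at this
      omega)
    rwa [psiPoly_natDegree h hN] at this
  rw [aeval_eq_sum_range' hd]
  exact sum_mem fun i hi => Submodule.smul_mem _ _ (Submodule.subset_span ⟨⟨i, Finset.mem_range.mp hi⟩, rfl⟩)

/-- The comparison map to the quotient of the polynomial ring. -/
theorem exists_toAdjoinRoot (hN : 0 < N) : ∃ f : SekSuwa.AK R lam N h →ₐ[R] AdjoinRoot (SekSuwa.psiPoly lam N h),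
    f SekSuwa.AK.t = AdjoinRoot.root _ := by
  let x := AdjoinRoot.root (SekSuwa.psiPoly lam N h)
  have hx : aeval x (SekSuwa.psiPoly lam N h) = 0 := AdjoinRoot.eval₂_root _
  have hu : (1 + lam • x) ^ N = 1 := by
    have := SekSuwa.aeval_psiPoly h x
    rw [hx, mul_zero] at this
    rw [Algebra.smul_def]
    exact sub_eq_zero.mp this.symm
  have hrel : (1 + lam • x) * (1 + lam • x) ^ (N - 1) = 1 := (pow_succ' _ _).symm.trans
      ((congrArg ((1 + lam • x) ^ ·) (Nat.sub_add_cancel hN)).trans hu)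
  let f₀ : SekSuwa.A R lam →ₐ[R] AdjoinRoot (SekSuwa.psiPoly lam N h) :=
    SekSuwa.A.lift R lam x _ hrel
  refine ⟨Ideal.Quotient.liftₐ (SekSuwa.kerIdeal lam N h) f₀ fun a ha => ?_, SekSuwa.A.lift_t _ _ hrel⟩
  obtain ⟨c, rfl⟩ := Ideal.mem_span_singleton'.mp ha
  rw [map_mul, SekSuwa.kerGen, ← aeval_algHom_apply, SekSuwa.A.lift_t, hx, mul_zero]

theorem linearIndependent_pow (hN : 0 < N) :
    LinearIndependent R fun i : Fin N => (SekSuwa.AK.t : SekSuwa.AK R lam N h) ^ (i : ℕ) := by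
  nontriviality R
  obtain ⟨f, hf⟩ := exists_toAdjoinRoot h hN
  refine LinearIndependent.of_comp f.toLinearMap ?_
  have := (AdjoinRoot.powerBasis' (psiPoly_monic h hN)).basis.linearIndependent
  have h2 := this.comp (finCongr (psiPoly_natDegree h hN).symm) (Equiv.injective _)
  convert h2 using 1
  funext i
  simp [hf]

/-- The basis of the coordinate ring. -/
noncomputable def basisPow (hN : 0 < N) : Module.Basis (Fin N) R (SekSuwa.AK R lam N h) :=
  Module.Basis.mk (linearIndependent_pow h hN) (span_pow_eq_top h hN).ge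

theorem basisPow_apply (hN : 0 < N) (i : Fin N) :
    basisPow h hN i = (SekSuwa.AK.t : SekSuwa.AK R lam N h) ^ (i : ℕ) := Module.Basis.mk_apply _ _ _

end Groth.Agent.Lib.SekSuwaOrd
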