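import Mathlib

/-!
# A `λ`-primitive element generates a bialgebra of prime rank
-/

set_option autoImplicit false
universe u

open scoped TensorProduct

namespace Groth.Agent.Lib.SekSuwaOrd

variable {k B : Type u} [Field k] [CommRing B] [Bialgebra k B] {p : ℕ} [Fact p.Prime] [CharP k p]

theorem linearIndependent_primitive (y : B) (hy0 : y ≠ 0)
    (hε : CoalgebraStruct.counit (R := k) y = 0)
    (hΔ : CoalgebraStruct.comul (R := k) y = y ⊗ₜ[k] 1 + 1 ⊗ₜ[k] y) :
    LinearIndependent k fun i : Fin p => y ^ (i : ℕ) := by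
  classical
  have : Nontrivial B := ⟨⟨y, 0, hy0⟩⟩
  suffices H : ∀ d ≤ p, LinearIndependent k fun i : Fin d => y ^ (i : ℕ) from H p le_rfl
  intro d
  induction d with
  | zero => exact fun _ => linearIndependent_empty_type
  | succ d ih =>
    intro hd
    have hI := ih (Nat.le_of_succ_le hd)
    have e : (fun i : Fin (d + 1) => y ^ (i : ℕ)) = Fin.snoc (fun i : Fin d => y ^ (i : ℕ)) (y ^ d) := by
      funext i
      refine Fin.lastCases ?_ (fun i => ?_) i <;> simp
    rw [e, linearIndependent_finSnoc]
    refine ⟨hI, fun hmem => ?_⟩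
    obtain ⟨c, hc⟩ := (Submodule.mem_span_range_iff_exists_fun k).mp hmem
    rcases d with _ | _ | n
    · simp at hc
    · rw [Fin.sum_univ_one] at hc
      have h0 : c 0 = 0 := by
        have := congrArg (CoalgebraStruct.counit (R := k)) hc
        simpa [hε] using this
      exact hy0 (by simpa [h0] using hc.symm)
    · set b := Module.Basis.span hI with hb
      let W := Submodule.span k (Set.range fun i : Fin (n + 2) => y ^ (i : ℕ))
      have hψ : ∀ i : Fin (n + 2), ∃ ψ : B →ₗ[k] k, ∀ l : Fin (n + 2), ψ (y ^ (l : ℕ)) = if l = i then 1 else 0 := by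
        intro i
        obtain ⟨ψ, hψ⟩ := LinearMap.exists_extend (b.coord i)
        refine ⟨ψ, fun l => ?_⟩
        have h1 : ψ (y ^ (l : ℕ)) = b.coord i (b l) := by
          rw [← hψ, LinearMap.comp_apply, hb]
          congr 1
          rw [Module.Basis.span_apply]
          rfl
        rw [h1, Module.Basis.coord_apply, Module.Basis.repr_self, Finsupp.single_apply]
      choose ψ hψ using hψ
      let i1 : Fin (n + 2) := ⟨1, by omega⟩
      let i2 : Fin (n + 2) := ⟨n + 1, by omega⟩
      let Φ : B ⊗[k] B →ₗ[k] k := LinearMap.mul' k k ∘ₗ TensorProduct.map (ψ i1) (ψ i2)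
      have hterm : ∀ (l j : ℕ), l < n + 2 → j < n + 2 →
          Φ ((y ^ l) ⊗ₜ[k] (y ^ j)) = if l = 1 ∧ j = n + 1 then 1 else 0 := by
        intro l j hl hj
        have h1 := hψ i1 ⟨l, hl⟩
        have h2 := hψ i2 ⟨j, hj⟩
        simp only at h1 h2
        show ψ i1 (y ^ l) * ψ i2 (y ^ j) = _
        rw [h1, h2]
        by_cases a : l = 1 <;> by_cases b : j = n + 1 <;> simp [i1, i2, Fin.ext_iff, a, b]
      have hcomul : ∀ i : ℕ, CoalgebraStruct.comul (R := k) (y ^ i) =
          ∑ m ∈ Finset.range (i + 1), i.choose m • ((y ^ m) ⊗ₜ[k] (y ^ (i - m))) := by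
        intro i
        rw [Bialgebra.comul_pow, hΔ, add_pow]
        refine Finset.sum_congr rfl fun m _ => ?_
        rw [Algebra.TensorProduct.tmul_pow, Algebra.TensorProduct.tmul_pow, one_pow, one_pow,
          Algebra.TensorProduct.tmul_mul_tmul, mul_one, one_mul, nsmul_eq_mul, mul_comm]
      have hL : Φ (CoalgebraStruct.comul (R := k) (y ^ (n + 2))) = (n + 2 : ℕ) := by
        rw [hcomul, map_sum, Finset.sum_eq_single 1]
        · rw [map_nsmul, hterm 1 _ (by omega) (by omega)]
          simp
        · intro m hm hm1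
          rw [Finset.mem_range] at hm
          rw [map_nsmul]
          rcases Nat.eq_zero_or_pos m with rfl | hm0
          · have h1 := hψ i1 ⟨0, by omega⟩
            simp only at h1
            show _ • (ψ i1 (y ^ 0) * _) = 0
            rw [h1]
            simp [i1, Fin.ext_iff]
          rcases eq_or_lt_of_le (Nat.lt_succ_iff.mp hm) with rfl | hm2
          · have h2 := hψ i2 ⟨0, by omega⟩
            simp only at h2
            rw [Nat.sub_self]
            show _ • (_ * ψ i2 (y ^ 0)) = 0
            rw [h2]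
            simp [i2, Fin.ext_iff]
          rw [hterm m _ hm2 (by omega), if_neg (fun h => hm1 h.1), smul_zero]
        · simp
      have hR : Φ (CoalgebraStruct.comul (R := k) (y ^ (n + 2))) = 0 := by
        rw [← hc, map_sum, map_sum]
        refine Finset.sum_eq_zero fun l _ => ?_
        rw [map_smul, map_smul, hcomul, map_sum, Finset.sum_eq_zero, smul_zero]
        intro m hm
        rw [Finset.mem_range] at hm
        have hl := l.isLt
        rw [map_nsmul, hterm m _ (by omega) (by omega), if_neg (by rintro ⟨rfl, h⟩; omega), smul_zero]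
      rw [hL] at hR
      have hdvd := (CharP.cast_eq_zero_iff k p (n + 2)).mp hR
      have := Nat.le_of_dvd (by omega) hdvd
      omega

/-- Powers of a `λ`-primitive element, `λ ≠ 0`. -/
theorem linearIndependent_multiplicative (l : k) (hl : l ≠ 0) (y : B) (hy0 : y ≠ 0)
    (hε : CoalgebraStruct.counit (R := k) y = 0)
    (hΔ : CoalgebraStruct.comul (R := k) y = y ⊗ₜ[k] 1 + 1 ⊗ₜ[k] y + l • (y ⊗ₜ[k] y))
    (hp : (1 + l • y) ^ p = 1) :
    LinearIndependent k fun i : Fin p => y ^ (i : ℕ) := by
  classical
  let z := 1 + l • y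
  have hz : IsGroupLikeElem k z := by
    refine ⟨by simp [z, hε], ?_⟩
    show CoalgebraStruct.comul (R := k) (1 + l • y) = _
    rw [map_add, map_smul, hΔ, Bialgebra.comul_one]
    simp only [z, Algebra.TensorProduct.one_def, TensorProduct.add_tmul, TensorProduct.tmul_add, smul_add,
      TensorProduct.smul_tmul', TensorProduct.tmul_smul, smul_smul]
    abel
  let zg : GroupLike k B := ⟨z, hz⟩
  have hord : orderOf zg = p := by
    refine orderOf_eq_prime (GroupLike.val_injective (by rw [GroupLike.val_pow]; exact hp)) fun h => hy0 ?_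
    have h2 : 1 + l • y = 1 := congrArg GroupLike.val h
    exact (smul_eq_zero.mp (add_eq_left.mp h2)).resolve_left hl
  have hzind : LinearIndependent k fun i : Fin p => z ^ (i : ℕ) := by
    have := (linearIndep_groupLikeVal (R := k) (A := B)).comp (fun i : Fin p => zg ^ (i : ℕ))
      fun i i' h => Fin.ext ((pow_injOn_Iio_orderOf (x := zg)) (by rw [hord]; exact i.isLt) (by rw [hord]; exact i'.isLt) h)
    have e : (GroupLike.val ∘ fun i : Fin p => zg ^ (i : ℕ)) = fun i : Fin p => z ^ (i : ℕ) := by
      funext i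
      simp [zg]
    rw [e] at this
    exact this
  have hsub : ∀ i : Fin p, z ^ (i : ℕ) ∈ Submodule.span k (Set.range fun i : Fin p => y ^ (i : ℕ)) := by
    intro i
    show (1 + l • y) ^ (i : ℕ) ∈ _
    rw [add_comm, add_pow]
    refine sum_mem fun m hm => ?_
    rw [Finset.mem_range] at hm
    rw [smul_pow, one_pow, mul_one, ← nsmul_eq_mul', ← Nat.cast_smul_eq_nsmul k, smul_smul]
    exact Submodule.smul_mem _ _ (Submodule.subset_span ⟨⟨m, by omega⟩, rfl⟩)
  refine linearIndependent_iff_card_le_finrank_span.mpr ?_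
  have := FiniteDimensional.span_of_finite k (Set.finite_range fun i : Fin p => y ^ (i : ℕ))
  calc Fintype.card (Fin p) = Module.finrank k (Submodule.span k (Set.range fun i : Fin p => z ^ (i : ℕ))) :=
        (finrank_span_eq_card hzind).symm
    _ ≤ _ := Submodule.finrank_mono (Submodule.span_le.mpr (by rintro _ ⟨i, rfl⟩; exact hsub i))

end Groth.Agent.Lib.SekSuwaOrd
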