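import Groth.Agent.Lib.SekSuwaOrd.AKBasis
import Groth.Agent.Lib.SekSuwaOrd.FieldGen

/-!
# Hopf orders of prime rank in the functions on a cyclic group
-/

set_option autoImplicit false
universe u

open scoped TensorProduct
open Polynomial

namespace Groth.Agent.Lib.SekSuwaOrd

variable {R K A : Type u} [CommRing R] [IsDomain R] [IsDiscreteValuationRing R] [Field K] [Algebra R K]
  [IsFractionRing R K] [CommRing A] [HopfAlgebra R A] [Module.Finite R A] [Module.Free R A]
  {M : Type} [Group M] [Finite M] (φ : M → WithConv (A →ₐ[R] K))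

omit [IsDiscreteValuationRing R] in
/-- Two elements of `A ⊗ A` agreeing at all pairs of points are equal. -/
theorem eq_of_forall_pairs (hinj : Function.Injective fun a m => (φ m).ofConv a)
    (hsurj : ∀ f : M → K, ∃ r : R, r ≠ 0 ∧ ∃ a : A, (fun m => (φ m).ofConv a) = r • f)
    (hrank : Module.finrank R A = Nat.card M) {z z' : A ⊗[R] A}
    (h : ∀ m n, Algebra.TensorProduct.lift (φ m).ofConv (φ n).ofConv (fun _ _ => Commute.all _ _) z =
      Algebra.TensorProduct.lift (φ m).ofConv (φ n).ofConv (fun _ _ => Commute.all _ _) z') : z = z' := by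
  classical
  have := Fintype.ofFinite M
  let b := Module.Free.chooseBasis R A
  let E : A →ₗ[R] (M → K) := LinearMap.pi fun m => (φ m).ofConv.toLinearMap
  have hspan : ⊤ ≤ Submodule.span K (Set.range fun i => E (b i)) := by
    rintro f -
    obtain ⟨r, hr, a, ha⟩ := hsurj f
    have hf : f = (algebraMap R K r)⁻¹ • E a := by
      rw [show E a = r • f from ha, ← algebraMap_smul K r f, smul_smul,
        inv_mul_cancel₀ (fun h => hr (IsFractionRing.injective R K (h.trans (map_zero _).symm))), one_smul]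
    rw [hf, ← b.sum_repr a, map_sum]
    refine Submodule.smul_mem _ _ (sum_mem fun i _ => ?_)
    rw [map_smul, ← algebraMap_smul K]
    exact Submodule.smul_mem _ _ (Submodule.subset_span ⟨i, rfl⟩)
  have hind : LinearIndependent K fun i => E (b i) :=
    linearIndependent_of_top_le_span_of_card_eq_finrank hspan (by
      rw [Module.finrank_pi, ← Module.finrank_eq_card_chooseBasisIndex R A, hrank, Nat.card_eq_fintype_card])
  rw [← sub_eq_zero]
  set w := z - z' with hw
  obtain ⟨c, hc⟩ : ∃ c : Module.Free.ChooseBasisIndex R A →₀ A, w = c.sum fun i a => b i ⊗ₜ[R] a :=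
    ⟨_, (TensorProduct.equivFinsuppOfBasisLeft b).symm_apply_apply w |>.symm.trans
      (TensorProduct.equivFinsuppOfBasisLeft_symm_apply b _)⟩
  have hz : ∀ i, c i = 0 := by
    intro i
    refine hinj (funext fun n => ?_)
    show (φ n).ofConv (c i) = (φ n).ofConv 0
    rw [map_zero]
    refine Fintype.linearIndependent_iff.mp hind (fun i => (φ n).ofConv (c i)) (funext fun m => ?_) i
    have h1 := h m n
    rw [← sub_eq_zero, ← map_sub, ← hw, hc, Finsupp.sum_fintype _ _ (fun i => by simp), map_sum] at h1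
    simp only [Algebra.TensorProduct.lift_tmul] at h1
    rw [Finset.sum_apply]
    simp only [Pi.smul_apply, smul_eq_mul, Pi.zero_apply]
    refine Eq.trans ?_ h1
    refine Finset.sum_congr rfl fun l _ => ?_
    exact mul_comm _ _
  rw [hc, Finsupp.sum_fintype _ _ (fun i => by simp)]
  simp [hz]

variable {p : ℕ} [Fact p.Prime] [CharP (IsLocalRing.ResidueField R) p]

/-- A Hopf order of prime rank is a `G_{λ,1}`. -/
theorem exists_bialgEquiv (ζ : R) (hζ : IsPrimitiveRoot ζ p)
    (φ : Multiplicative (ZMod p) → WithConv (A →ₐ[R] K))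
    (hmul : ∀ m n, φ (m * n) = φ m * φ n) (hone : φ 1 = 1)
    (hinj : Function.Injective fun a m => (φ m).ofConv a)
    (hsurj : ∀ f : Multiplicative (ZMod p) → K, ∃ r : R, r ≠ 0 ∧ ∃ a : A, (fun m => (φ m).ofConv a) = r • f)
    (hrank : Module.finrank R A = p) :
    ∃ (lam : R) (h : SekSuwa.DivCond lam p), lam ≠ 0 ∧ Nonempty (SekSuwa.AK R lam p h ≃ₐc[R] A) := by
  classical
  have hp := (Fact.out : p.Prime)
  have hinjK : Function.Injective (algebraMap R K) := IsFractionRing.injective R K
  let χ : Multiplicative (ZMod p) → K := fun m => algebraMap R K ζ ^ m.toAdd.val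
  have hζK : IsPrimitiveRoot (algebraMap R K ζ) p := hζ.map_of_injective hinjK
  have hχ : ∀ m n, χ (m * n) = χ m * χ n := fun m n => by
    show algebraMap R K ζ ^ (m.toAdd + n.toAdd).val = _
    rw [ZMod.val_add, ← pow_add]
    conv_rhs => rw [pow_eq_pow_mod _ hζK.pow_eq_one]
  have hχp : ∀ m, χ m ^ p = 1 := fun m => by
    show (algebraMap R K ζ ^ _) ^ p = 1
    rw [← pow_mul, mul_comm, pow_mul, hζK.pow_eq_one, one_pow]
  have hf0 : (fun m => χ m - 1) ≠ 0 := fun h => by
    have h1 := congrFun h (Multiplicative.ofAdd (1 : ZMod p))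
    have : Fact (1 < p) := ⟨hp.one_lt⟩
    simp only [χ, toAdd_ofAdd, ZMod.val_one, pow_one, Pi.zero_apply, sub_eq_zero] at h1
    exact hζK.ne_one hp.one_lt h1
  obtain ⟨r, hr, a, ha⟩ := hsurj fun m => χ m - 1
  let b := Module.finBasisOfFinrankEq R A hrank
  -- the content of `a`
  obtain ⟨g, hg⟩ := (IsPrincipalIdealRing.principal (Ideal.span (Set.range fun i => b.repr a i))).principal
  have hmem : ∀ i, ∃ w, b.repr a i = w * g := fun i => by
    have : b.repr a i ∈ Ideal.span {g} := by
      rw [← Ideal.submodule_span_eq, ← hg]; exact Ideal.subset_span ⟨i, rfl⟩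
    obtain ⟨w, hw⟩ := Ideal.mem_span_singleton'.mp this
    exact ⟨w, hw.symm⟩
  choose w hw using hmem
  let y : A := b.equivFun.symm w
  have hay : a = g • y := by
    refine b.equivFun.injective ?_
    rw [map_smul, LinearEquiv.apply_symm_apply]
    funext i
    simp [Module.Basis.equivFun_apply, hw i, mul_comm]
  have hrK : algebraMap R K r ≠ 0 := fun h => hr (hinjK (h.trans (map_zero _).symm))
  have hg0 : g ≠ 0 := by
    rintro rfl
    apply hf0
    rw [zero_smul] at hay
    funext m
    have h1 := congrFun ha m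
    simp only [hay, map_zero, Pi.smul_apply, Algebra.smul_def] at h1
    exact (mul_eq_zero.mp h1.symm).resolve_left hrK
  have hy : ∃ i, w i ∉ IsLocalRing.maximalIdeal R := by
    by_contra hall
    push Not at hall
    have : g ∈ Ideal.span (Set.range fun i => b.repr a i) := by
      rw [hg, Ideal.submodule_span_eq]; exact Ideal.mem_span_singleton_self g
    have h2 : Ideal.span (Set.range fun i => b.repr a i) ≤ IsLocalRing.maximalIdeal R * Ideal.span {g} := by
      rw [Ideal.span_le]
      rintro _ ⟨i, rfl⟩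
      show b.repr a i ∈ _
      rw [hw i]
      exact Ideal.mul_mem_mul (hall i) (Ideal.mem_span_singleton_self g)
    obtain ⟨z, hz, hz'⟩ := Ideal.mem_mul_span_singleton.mp (h2 this)
    have : z = 1 := mul_right_cancel₀ hg0 (hz'.trans (one_mul g).symm)
    exact (IsLocalRing.maximalIdeal.isMaximal R).ne_top ((Ideal.eq_top_iff_one _).mpr (this ▸ hz))
  obtain ⟨i₀, hi₀⟩ := hy
  let c : K := algebraMap R K g / algebraMap R K r
  have hc0 : c ≠ 0 := div_ne_zero (fun h => hg0 (hinjK (h.trans (map_zero _).symm))) hrK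
  have hcy : ∀ m, c * (φ m).ofConv y = χ m - 1 := fun m => by
    have h1 := congrFun ha m
    simp only [hay, map_smul, Pi.smul_apply, Algebra.smul_def, map_mul, AlgHom.commutes] at h1
    rw [div_mul_eq_mul_div, h1, mul_div_cancel_left₀ _ hrK]
  have hlaw : ∀ m n, (φ (m * n)).ofConv y =
      (φ m).ofConv y + (φ n).ofConv y + c * ((φ m).ofConv y * (φ n).ofConv y) := fun m n => by
    refine mul_left_cancel₀ hc0 ?_
    linear_combination hcy (m * n) + hχ m n - hcy m - hcy n -
      (c * (φ n).ofConv y) * hcy m - (χ m - 1) * hcy n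
  let D : A ⊗[R] A := CoalgebraStruct.comul (R := R) y - y ⊗ₜ[R] 1 - 1 ⊗ₜ[R] y
  have hD : ∀ m n, Algebra.TensorProduct.lift (φ m).ofConv (φ n).ofConv (fun _ _ => Commute.all _ _) D =
      c * ((φ m).ofConv y * (φ n).ofConv y) := fun m n => by
    simp only [D, map_sub, Algebra.TensorProduct.lift_tmul, map_one, mul_one, one_mul]
    rw [show Algebra.TensorProduct.lift (φ m).ofConv (φ n).ofConv (fun _ _ => Commute.all _ _)
      (CoalgebraStruct.comul (R := R) y) = (φ (m * n)).ofConv y by rw [hmul]; exact (AlgHom.convMul_apply _ _ _).symm,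
      hlaw]
    ring
  obtain ⟨lam, hlam⟩ : ∃ lam, algebraMap R K lam = c := by
    rcases ValuationRing.isInteger_or_isInteger R c with ⟨s, hs⟩ | ⟨s, hs⟩
    · exact ⟨s, hs⟩
    · by_cases hu : IsUnit s
      · refine ⟨↑hu.unit⁻¹, ?_⟩
        have h1 : algebraMap R K ↑hu.unit⁻¹ * c⁻¹ = 1 := by
          rw [← hs, ← map_mul, hu.val_inv_mul, map_one]
        field_simp at h1
        exact h1
      · exfalso
        have hD' : s • D = y ⊗ₜ[R] y := eq_of_forall_pairs φ hinj hsurj (by simp [hrank]) fun m n => by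
          rw [map_smul, hD, Algebra.TensorProduct.lift_tmul, Algebra.smul_def, hs]
          field_simp
        have h3 := congrArg (fun z => (b.tensorProduct b).repr z (i₀, i₀)) hD'
        simp only [map_smul, Finsupp.smul_apply, smul_eq_mul, Module.Basis.tensorProduct_repr_tmul_apply] at h3
        have hrep : b.repr y i₀ = w i₀ := by
          rw [← Module.Basis.equivFun_apply, LinearEquiv.apply_symm_apply]
        rw [hrep] at h3
        have : w i₀ * w i₀ ∈ IsLocalRing.maximalIdeal R := h3 ▸ Ideal.mul_mem_right _ _ hu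
        exact hi₀ (((IsLocalRing.maximalIdeal.isMaximal R).isPrime.mem_or_mem this).elim id id)
  have hlam0 : lam ≠ 0 := fun h => hc0 (by rw [← hlam, h, map_zero])
  have hΔ : CoalgebraStruct.comul (R := R) y = y ⊗ₜ[R] 1 + 1 ⊗ₜ[R] y + lam • (y ⊗ₜ[R] y) := by
    have : D = lam • (y ⊗ₜ[R] y) := eq_of_forall_pairs φ hinj hsurj (by simp [hrank]) fun m n => by
      rw [map_smul, hD, Algebra.TensorProduct.lift_tmul, Algebra.smul_def, hlam]
    rw [← this]
    simp only [D]
    abel
  have hε : CoalgebraStruct.counit (R := R) y = 0 := by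
    refine hinjK ?_
    rw [map_zero, ← AlgHom.convOne_apply (A := K), ← hone]
    have h1 := hcy 1
    rw [show χ 1 = 1 by simp [χ], sub_self] at h1
    exact (mul_eq_zero.mp h1).resolve_left hc0
  have hup : (1 + lam • y) ^ p = 1 := hinj (funext fun m => by
    show (φ m).ofConv ((1 + lam • y) ^ p) = (φ m).ofConv 1
    rw [map_pow, map_add, map_smul, map_one, Algebra.smul_def, hlam, hcy, add_sub_cancel, hχp])
  -- the special fibre
  let k := IsLocalRing.ResidueField R
  let yb : k ⊗[R] A := 1 ⊗ₜ[R] y
  have hyb : yb ≠ 0 := fun h => hi₀ (by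
    have h1 := congrArg (fun z => (Algebra.TensorProduct.basis k b).repr z i₀) h
    simp only [yb, Algebra.TensorProduct.basis_repr_tmul, map_zero, Finsupp.coe_zero, Pi.zero_apply] at h1
    rw [← IsLocalRing.residue_eq_zero_iff]
    have hrep : b.repr y i₀ = w i₀ := by
      rw [← Module.Basis.equivFun_apply, LinearEquiv.apply_symm_apply]
    rw [one_smul, Finsupp.mapRange_apply, hrep] at h1
    exact h1)
  have hε' : CoalgebraStruct.counit (R := k) yb = 0 := by
    simp [yb, hε]
  have hΔ' : CoalgebraStruct.comul (R := k) yb =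
      yb ⊗ₜ[k] 1 + 1 ⊗ₜ[k] yb + algebraMap R k lam • (yb ⊗ₜ[k] yb) := by
    simp only [yb, TensorProduct.comul_tmul, hΔ, Bialgebra.comul_one, TensorProduct.tmul_add,
      TensorProduct.tmul_smul, algebraMap_smul, map_add, LinearMap.map_smul_of_tower,
      Algebra.TensorProduct.one_def]
    simp [TensorProduct.smul_tmul']
  have hfin : Module.finrank k (k ⊗[R] A) = p := by rw [Module.finrank_baseChange, hrank]
  have hind : LinearIndependent k fun i : Fin p => yb ^ (i : ℕ) := by
    rcases eq_or_ne (algebraMap R k lam) 0 with h | h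
    · exact linearIndependent_primitive yb hyb hε' (by rw [hΔ', h, zero_smul, add_zero])
    · refine linearIndependent_multiplicative _ h yb hyb hε' hΔ' ?_
      have h1 := congrArg (Algebra.TensorProduct.includeRight : A →ₐ[R] k ⊗[R] A) hup
      rw [map_pow, map_add, map_smul, map_one] at h1
      rw [algebraMap_smul]
      exact h1
  let S := Submodule.span R (Set.range fun i : Fin p => y ^ (i : ℕ))
  have hS : S = ⊤ := by
    rw [← IsLocalRing.map_tensorProduct_mk_eq_top, eq_top_iff]
    rintro z -
    have hz : z ∈ Submodule.span k (Set.range fun i : Fin p => yb ^ (i : ℕ)) := by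
      rw [hind.span_eq_top_of_card_eq_finrank' (by rw [Fintype.card_fin, hfin])]; trivial
    obtain ⟨cf, rfl⟩ := (Submodule.mem_span_range_iff_exists_fun k).mp hz
    refine sum_mem fun i _ => ?_
    obtain ⟨s, hs⟩ := IsLocalRing.residue_surjective (cf i)
    refine ⟨s • y ^ (i : ℕ), Submodule.smul_mem _ _ (Submodule.subset_span ⟨i, rfl⟩), ?_⟩
    show (1 : k) ⊗ₜ[R] (s • y ^ (i : ℕ)) = _
    rw [TensorProduct.tmul_smul, ← algebraMap_smul k s, ← hs]
    simp [yb, Algebra.TensorProduct.tmul_pow]
    rfl
  let L : (Fin p → R) →ₗ[R] A := Fintype.linearCombination R fun i : Fin p => y ^ (i : ℕ)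
  have hLs : Function.Surjective L := by
    rw [← LinearMap.range_eq_top, Fintype.range_linearCombination]
    exact hS
  have hLi : Function.Injective L := by
    have h1 := OrzechProperty.injective_of_surjective_endomorphism (L ∘ₗ b.equivFun.toLinearMap)
      (hLs.comp b.equivFun.surjective)
    intro u v huv
    obtain ⟨u', rfl⟩ := b.equivFun.surjective u
    obtain ⟨v', rfl⟩ := b.equivFun.surjective v
    rw [h1 huv]
  have hli : LinearIndependent R fun i : Fin p => y ^ (i : ℕ) :=
    Fintype.linearIndependent_iff.mpr fun cf hcf i => congrFun (hLi (hcf.trans (map_zero L).symm) :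
      cf = 0) i
  let bY : Module.Basis (Fin p) R A := Module.Basis.mk hli hS.ge
  -- the divisibility
  let P : R[X] := X ^ p - ∑ i : Fin p, C (bY.repr (y ^ p) i) * X ^ (i : ℕ)
  have hP : aeval y P = 0 := by
    simp only [P, map_sub, map_pow, aeval_X, map_sum, map_mul, aeval_C]
    rw [sub_eq_zero]
    conv_lhs => rw [← bY.sum_repr (y ^ p)]
    simp [bY, Algebra.smul_def]
  have hPc : ∀ i, p ≤ i → P.coeff i = if i = p then 1 else 0 := fun i hi => by
    simp only [P, coeff_sub, coeff_X_pow, finsetSum_coeff, coeff_C_mul]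
    rw [Finset.sum_eq_zero fun l _ => by rw [if_neg (by omega), mul_zero], sub_zero]
  let Q : R[X] := (1 + C lam * X) ^ p - 1 - C (lam ^ p) * P
  have hQc : ∀ i, p ≤ i → Q.coeff i = 0 := fun i hi => by
    simp only [Q, coeff_sub, coeff_C_mul, hPc i hi]
    have := coeff_aux (lam := lam) (N := p) i (by have := hp.pos; omega)
    rw [coeff_sub] at this
    rw [this]
    split_ifs with h
    · subst h; simp
    · rw [Nat.choose_eq_zero_of_lt (by omega)]; simp
  have hQ : Q = 0 := by
    have hQy : aeval y Q = 0 := by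
      simp only [Q, map_sub, map_pow, map_add, map_one, map_mul, aeval_C, aeval_X, hP, mul_zero, sub_zero]
      rw [← Algebra.smul_def, hup, sub_self]
    have hd : Q.natDegree < p := by
      by_contra h
      push Not at h
      have h1 : Q ≠ 0 := fun h0 => by simp [h0] at h; have := hp.pos; omega
      exact (leadingCoeff_ne_zero.mpr h1) (hQc _ h)
    rw [aeval_eq_sum_range' hd, ← Fin.sum_univ_eq_sum_range (fun i => Q.coeff i • y ^ i)] at hQy
    ext i
    rcases lt_or_ge i p with h | h
    · simpa using Fintype.linearIndependent_iff.mp hli _ hQy ⟨i, h⟩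
    · simpa using hQc i h
  have hdiv : SekSuwa.DivCond lam p := ⟨mem_nonZeroDivisors_of_ne_zero hlam0, P, (sub_eq_zero.mp hQ).symm⟩
  have hPpsi : P = SekSuwa.psiPoly lam p hdiv := SekSuwa.psiPoly_unique hdiv (sub_eq_zero.mp hQ).symm
  -- the comparison
  have hrel : (1 + lam • y) * (1 + lam • y) ^ (p - 1) = 1 :=
    (pow_succ' _ _).symm.trans ((congrArg ((1 + lam • y) ^ ·) (Nat.sub_add_cancel hp.pos)).trans hup)
  let f₀ := SekSuwa.A.lift R lam y _ hrel
  let f : SekSuwa.AK R lam p hdiv →ₐ[R] A := Ideal.Quotient.liftₐ (SekSuwa.kerIdeal lam p hdiv) f₀ (fun z hz => by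
    obtain ⟨d, rfl⟩ := Ideal.mem_span_singleton'.mp hz
    rw [map_mul, SekSuwa.kerGen, ← aeval_algHom_apply, SekSuwa.A.lift_t, ← hPpsi, hP, mul_zero])
  have hft : f SekSuwa.AK.t = y := SekSuwa.A.lift_t _ _ hrel
  have hfb : Function.Bijective f := by
    have : f.toLinearMap = ((basisPow hdiv hp.pos).equiv bY (Equiv.refl _)).toLinearMap :=
      (basisPow hdiv hp.pos).ext fun i => by
        rw [AlgHom.toLinearMap_apply, LinearEquiv.coe_coe, Module.Basis.equiv_apply, basisPow_apply, map_pow, hft]
        simp [bY]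
    rw [show (f : SekSuwa.AK R lam p hdiv → A) = f.toLinearMap from rfl, this]
    exact LinearEquiv.bijective _
  have hfu : f (1 + lam • SekSuwa.AK.t) = 1 + lam • y := by rw [map_add, map_one, map_smul, hft]
  have hcomul_u : CoalgebraStruct.comul (R := R) (1 + lam • y) = (1 + lam • y) ⊗ₜ[R] (1 + lam • y) := by
    rw [map_add, map_smul, hΔ, Bialgebra.comul_one]
    simp only [Algebra.TensorProduct.one_def, TensorProduct.add_tmul, TensorProduct.tmul_add, smul_add,
      TensorProduct.smul_tmul', TensorProduct.tmul_smul, smul_smul]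
    abel
  refine ⟨lam, hdiv, hlam0, ⟨BialgEquiv.ofAlgEquiv (AlgEquiv.ofBijective f hfb) ?_ ?_⟩⟩
  · refine SekSuwa.AK.algHom_ext ?_ ?_
    · rw [AlgHom.comp_apply, Bialgebra.counitAlgHom_apply, Bialgebra.counitAlgHom_apply]
      show CoalgebraStruct.counit (R := R) (f SekSuwa.AK.t) = _
      rw [hft, hε, SekSuwa.AK.counit_t]
    · rw [AlgHom.comp_apply, Bialgebra.counitAlgHom_apply, Bialgebra.counitAlgHom_apply]
      show CoalgebraStruct.counit (R := R) (f SekSuwa.AK.inv) = _
      rw [inv_eq hdiv hp.pos, map_pow, hfu, Bialgebra.counit_pow, map_add, map_smul, hε, smul_zero, add_zero,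
        Bialgebra.counit_one, one_pow, ← inv_eq hdiv hp.pos, SekSuwa.AK.counit_inv]
  · refine SekSuwa.AK.algHom_ext ?_ ?_
    · show Algebra.TensorProduct.map f f (CoalgebraStruct.comul (R := R) _) =
        CoalgebraStruct.comul (R := R) (f SekSuwa.AK.t)
      rw [hft, hΔ, SekSuwa.AK.comul_t]
      simp [hft]
    · show Algebra.TensorProduct.map f f (CoalgebraStruct.comul (R := R) _) =
        CoalgebraStruct.comul (R := R) (f SekSuwa.AK.inv)
      rw [SekSuwa.AK.comul_inv, Algebra.TensorProduct.map_tmul, inv_eq hdiv hp.pos, map_pow, hfu,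
        Bialgebra.comul_pow, hcomul_u, Algebra.TensorProduct.tmul_pow]

end Groth.Agent.Lib.SekSuwaOrd
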