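import Groth.Prelude.Def_SekSuwa
import Groth.Prelude.Def_NonAbH2
import Groth.Agent.Lib.GrpdQuot.ActionQuot
import Groth.Agent.Lib.GrpdQuot.Equiv
import Groth.Agent.H1.Hopf

/-!
# The exact sequence of a finite flat subgroup and the functions constant on its cosets
-/

set_option autoImplicit false
universe u

open CategoryTheory CategoryTheory.Limits MonoidalCategory CartesianMonoidalCategory AlgebraicGeometry
open scoped MonObj TensorProduct

attribute [local instance] Hom.commMonoid

namespace Groth.Agent.Lib.SekSuwaOrd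

variable {R K A B C : Type u} [CommRing R] [Field K] [Algebra R K] [CommRing A] [HopfAlgebra R A]
  [Coalgebra.IsCocomm R A] [CommRing B] [HopfAlgebra R B] [CommRing C] [HopfAlgebra R C]

/-- An affine scheme over `Spec R`. -/
noncomputable abbrev affSpec (R X : Type u) [CommRing R] [CommRing X] [Algebra R X] : Over (Spec (CommRingCat.of R)) :=
  (Spec (CommRingCat.of X)).asOver (Spec (CommRingCat.of R))

/-- The action of a subgroup by translation. -/
noncomputable def translAction (π : A →ₐc[R] C) : AlgGrp.Action (affSpec R C) (affSpec R A) where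
  act := (fst _ _ ≫ SekSuwa.specHom π) * snd _ _
  one_act := by
    rw [MonObj.comp_mul, ← Category.assoc, whiskerRight_fst, whiskerRight_snd, Category.assoc,
      IsMonHom.one_hom, toUnit_unique (fst _ _) (toUnit _), ← Hom.one_def, one_mul, leftUnitor_hom]
  mul_act := by
    have hμ : (μ : affSpec R C ⊗ affSpec R C ⟶ affSpec R C) = fst _ _ * snd _ _ := by
      rw [Hom.mul_def, lift_fst_snd, Category.id_comp]
    rw [hμ]
    simp only [MonObj.comp_mul, MonObj.mul_comp, whiskerRight_fst_assoc, whiskerRight_snd,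
      whiskerLeft_fst_assoc, whiskerLeft_snd, whiskerLeft_snd_assoc, associator_hom_fst_assoc,
      associator_hom_snd_fst_assoc, associator_hom_snd_snd, Category.assoc, mul_assoc]

theorem translAction_act (π : A →ₐc[R] C) :
    (translAction π).act = (fst _ _ ≫ SekSuwa.specHom π) * snd _ _ := rfl

theorem appTop_specMap {S T : Type u} [CommRing S] [CommRing T] (f : S →+* T) (s : S) :
    (Spec.map (CommRingCat.ofHom f)).appTop.hom ((Scheme.ΓSpecIso (CommRingCat.of S)).inv.hom s) =
      (Scheme.ΓSpecIso (CommRingCat.of T)).inv.hom (f s) :=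
  (ConcreteCategory.congr_hom (Scheme.ΓSpecIso_inv_naturality (CommRingCat.ofHom f)) s).symm

variable {M N : Type} [Group M]

/-- The sequence attached to a subgroup and the functions constant on its cosets is exact. -/
theorem isExactSeq [Module.Finite R C] [Module.Flat R C] [Algebra.FinitePresentation R C]
    (π : A →ₐc[R] C) (hπ : Function.Surjective π) (g : B →ₐc[R] A) (hg : Function.Injective g)
    (hcomp : π.comp g = (Bialgebra.unitBialgHom R C).comp (Bialgebra.counitBialgHom R B))
    (φ : M → WithConv (A →ₐ[R] K)) (hmul : ∀ m n, φ (m * n) = φ m * φ n)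
    (incl : N → M) (ψ : N → (C →ₐ[R] K)) (hψ : ∀ n a, ψ n (π a) = (φ (incl n)).ofConv a)
    (hfac : ∀ a : A, (∀ m n, (φ (incl n * m)).ofConv a = (φ m).ofConv a) → a ∈ Set.range g) :
    NonAbH1.IsExactSeq Scheme.fppfPrecoverage (SekSuwa.specHom π) (SekSuwa.specHom g) := by
  let u := SekSuwa.specHom π
  let v := SekSuwa.specHom g
  let act := translAction π
  let GR := Groth.Agent.Lib.GrpdQuot.actGrpd act
  have huv : u ≫ v = 1 := by
    show SekSuwa.specHom π ≫ SekSuwa.specHom g = 1
    rw [← SekSuwa.specHom_comp, hcomp, SekSuwa.specHom_trivial]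
  have hclosed : IsClosedImmersion (Spec.map (CommRingCat.ofHom (π : A →+* C))) :=
    IsClosedImmersion.spec_of_surjective _ hπ
  have hmono : Mono u := by
    have : Mono ((Over.forget _).map u) := (inferInstance : Mono (Spec.map (CommRingCat.ofHom (π : A →+* C))))
    exact (Over.forget _).mono_of_mono_map this
  have hC : IsFinite (affSpec R C).hom ∧ Flat (affSpec R C).hom ∧ LocallyOfFinitePresentation (affSpec R C).hom :=
    ⟨(IsFinite.SpecMap_iff _).mpr (RingHom.finite_algebraMap.mpr inferInstance),
      (HasRingHomProperty.Spec_iff (P := @Flat)).mpr (RingHom.flat_algebraMap_iff.mpr inferInstance),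
      (HasRingHomProperty.Spec_iff (P := @LocallyOfFinitePresentation)).mpr
        (RingHom.finitePresentation_algebraMap.mpr inferInstance)⟩
  obtain ⟨⟨hs1, hs2, hs3⟩, ht1, -, -⟩ := Groth.Agent.Lib.GrpdQuot.finLocFree_actGrpd act hC
  have : IsAffine GR.U := inferInstanceAs (IsAffine (Spec (CommRingCat.of A)))
  have : IsAffine GR.R := by
    have : IsAffineHom GR.s := inferInstance
    exact isAffine_of_isAffineHom GR.s
  have : Mono GR.j := ⟨fun {T} h k hk => by
    have hjf : GR.j ≫ pullback.fst _ _ = GR.t := pullback.lift_fst _ _ _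
    have hjs : GR.j ≫ pullback.snd _ _ = GR.s := pullback.lift_snd _ _ _
    have h1 : h ≫ GR.t = k ≫ GR.t := by rw [← hjf, reassoc_of% hk]
    have h2 : h ≫ GR.s = k ≫ GR.s := by rw [← hjs, reassoc_of% hk]
    have hp : k ≫ ((affSpec R C) ⊗ (affSpec R A)).hom = h ≫ ((affSpec R C) ⊗ (affSpec R A)).hom := by
      rw [show ((affSpec R C) ⊗ (affSpec R A)).hom = GR.s ≫ GR.pU from GR.s_over.symm, reassoc_of% h2]
    let T' := Over.mk (h ≫ ((affSpec R C) ⊗ (affSpec R A)).hom)
    let h' : T' ⟶ (affSpec R C) ⊗ (affSpec R A) := Over.homMk h rfl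
    let k' : T' ⟶ (affSpec R C) ⊗ (affSpec R A) := Over.homMk k hp
    have e1 : h' ≫ snd _ _ = k' ≫ snd _ _ := Over.OverMorphism.ext h2
    have e2 : h' ≫ act.act = k' ≫ act.act := Over.OverMorphism.ext h1
    simp only [act, translAction_act, MonObj.comp_mul, e1, ← Category.assoc] at e2
    have e3 : h' = k' := CartesianMonoidalCategory.hom_ext _ _ ((cancel_mono u).mp (mul_right_cancel e2)) e1
    exact congrArg CommaMorphism.left e3⟩
  have hvact : act.act ≫ v = snd _ _ ≫ v := by
    show ((fst _ _ ≫ u) * snd _ _) ≫ v = _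
    rw [MonObj.mul_comp, Category.assoc, huv, MonObj.comp_one, one_mul]
  -- the invariants
  let gB : B →+* Γ(GR.U, ⊤) := (Scheme.ΓSpecIso (CommRingCat.of A)).inv.hom.comp (g : B →+* A)
  have hgB : ∀ b, gB b = v.left.appTop.hom ((Scheme.ΓSpecIso (CommRingCat.of B)).inv.hom b) := fun b =>
    (appTop_specMap (g : B →+* A) b).symm
  have hinv : ∀ b, gB b ∈ GR.invariants := fun b => by
    show GR.s.appTop.hom (gB b) = GR.t.appTop.hom (gB b)
    rw [hgB]
    exact (ConcreteCategory.congr_hom (congrArg (fun f => f.left.appTop) hvact) _).symm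
  let γ : B →+* GR.invariants := gB.codRestrict GR.invariants hinv
  have hγ : Function.Bijective γ := by
    refine ⟨fun x y h => hg ?_, fun ⟨x, hx⟩ => ?_⟩
    · exact (Scheme.ΓSpecIso (CommRingCat.of A)).commRingCatIsoToRingEquiv.symm.injective (congrArg Subtype.val h)
    obtain ⟨a, rfl⟩ : ∃ a, (Scheme.ΓSpecIso (CommRingCat.of A)).inv.hom a = x :=
      (Scheme.ΓSpecIso (CommRingCat.of A)).commRingCatIsoToRingEquiv.symm.surjective x
    obtain ⟨b, hb⟩ := hfac a fun m n => by
      let P : (affSpec R K) ⟶ (affSpec R C) ⊗ (affSpec R A) :=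
        lift (Spec.mapMulEquiv (WithConv.toConv (ψ n))) (Spec.mapMulEquiv (φ m))
      have hu : Spec.mapMulEquiv (WithConv.toConv (ψ n)) ≫ u = Spec.mapMulEquiv (φ (incl n)) := by
        refine Over.OverMorphism.ext ?_
        show Spec.map _ ≫ Spec.map _ = Spec.map _
        rw [← Spec.map_comp]
        exact congrArg Spec.map (CommRingCat.hom_ext (RingHom.ext (hψ n)))
      have hPa : P ≫ act.act = Spec.mapMulEquiv (φ (incl n * m)) := by
        rw [translAction_act, MonObj.comp_mul, lift_snd, ← Category.assoc, lift_fst, hu, hmul, map_mul]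
      have hPs : P ≫ snd _ _ = Spec.mapMulEquiv (φ m) := lift_snd _ _
      have key := congrArg (P.left.appTop.hom) (show GR.s.appTop.hom _ = GR.t.appTop.hom _ from hx)
      have k1 := (ConcreteCategory.congr_hom (congrArg (fun f => f.left.appTop) hPs)
        ((Scheme.ΓSpecIso (CommRingCat.of A)).inv.hom a)).trans (appTop_specMap (φ m).ofConv.toRingHom a)
      have k2 := (ConcreteCategory.congr_hom (congrArg (fun f => f.left.appTop) hPa)
        ((Scheme.ΓSpecIso (CommRingCat.of A)).inv.hom a)).trans (appTop_specMap (φ (incl n * m)).ofConv.toRingHom a)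
      exact (Scheme.ΓSpecIso (CommRingCat.of K)).commRingCatIsoToRingEquiv.symm.injective
        ((k2.symm.trans key.symm).trans k1)
    refine ⟨b, Subtype.ext ?_⟩
    show gB b = _
    exact congrArg (fun x => (Scheme.ΓSpecIso (CommRingCat.of A)).inv.hom x) hb
  let eq : CommRingCat.of B ≅ CommRingCat.of GR.invariants := (RingEquiv.ofBijective γ hγ).toCommRingCatIso
  let eS : Spec (CommRingCat.of GR.invariants) ≅ Spec (CommRingCat.of B) := Scheme.Spec.mapIso eq.op
  have hv : GR.toQuot ≫ eS.hom = v.left := by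
    show (GR.U.toSpecΓ ≫ Spec.map _) ≫ Spec.map eq.hom = Spec.map (CommRingCat.ofHom (g : B →+* A))
    rw [Category.assoc, ← Spec.map_comp]
    have : eq.hom ≫ CommRingCat.ofHom GR.invariants.subtype =
        CommRingCat.ofHom (g : B →+* A) ≫ (Scheme.ΓSpecIso (CommRingCat.of A)).inv := rfl
    refine (congrArg (fun k => GR.U.toSpecΓ ≫ k) ((congrArg Spec.map this).trans (Spec.map_comp _ _))).trans ?_
    exact toSpecΓ_SpecMap_ΓSpecIso_inv_assoc _ _
  have hq := Groth.Agent.Lib.GrpdQuot.toQuot_finLocFree GR
  obtain ⟨hq1, hq2, hq3⟩ := hq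
  have sq : IsPullback GR.t GR.s v.left v.left :=
    IsPullback.of_iso (Groth.Agent.Lib.GrpdQuot.isPullback_toQuot GR) (Iso.refl _) (Iso.refl _) (Iso.refl _) eS
      (by simp) (by simp) ((Category.id_comp v.left).trans hv.symm |>.symm) ((Category.id_comp v.left).trans hv.symm |>.symm)
  have sq' : IsPullback act.act (snd _ _) v v :=
    IsPullback.of_map (Over.forget _) hvact sq
  refine ⟨inferInstance, inferInstance, huv, ?_, ?_⟩
  · refine IsPullback.of_iso sq'.flip (β_ (affSpec R C) (affSpec R A)) (Iso.refl _) (Iso.refl _) (Iso.refl _) ?_ ?_ ((Category.comp_id v).trans (Category.id_comp v).symm) ((Category.comp_id v).trans (Category.id_comp v).symm)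
    · simp
    · rw [Iso.refl_hom, Category.comp_id, translAction_act, ← Category.assoc,
        show (β_ (affSpec R C) (affSpec R A)).hom ≫ ((affSpec R A) ◁ u) = lift (snd _ _) (fst _ _ ≫ u) from
          CartesianMonoidalCategory.hom_ext _ _ (by simp) (by simp),
        ← Hom.mul_def, mul_comm]
  · have hqs : Surjective GR.toQuot := ⟨Groth.Agent.Lib.GrpdQuot.toQuot_surjective GR⟩
    have : Surjective v.left := hv ▸ ((MorphismProperty.cancel_right_of_respectsIso (P := @Surjective) GR.toQuot eS.hom).mpr hqs)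
    have : Flat v.left := hv ▸ ((MorphismProperty.cancel_right_of_respectsIso (P := @Flat) GR.toQuot eS.hom).mpr hq2)
    have : LocallyOfFinitePresentation v.left := hv ▸
      ((MorphismProperty.cancel_right_of_respectsIso (P := @LocallyOfFinitePresentation) GR.toQuot eS.hom).mpr hq3)
    exact Groth.Agent.Lib.GrpdQuot.isLocallyTrivialFor_of_fppfCover v.left

end Groth.Agent.Lib.SekSuwaOrd
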