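import Mathlib

/-!
# Lattices in the functions on a finite set
-/

set_option autoImplicit false
universe u

open scoped TensorProduct

namespace Groth.Agent.Lib.SekSuwaOrd

variable {R K A B : Type u} [CommRing R] [IsDomain R] [Field K] [Algebra R K]
  [IsFractionRing R K] [CommRing A] [Algebra R A] [CommRing B] [Algebra R B] {M N : Type}

/-- A free lattice of functions stays independent over the fraction field. -/
theorem linearIndependent_eval {ι : Type*} (φ : M → (A →ₐ[R] K))
    (hinj : Function.Injective fun a m => φ m a) (b : Module.Basis ι R A) :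
    LinearIndependent K fun i => fun m => φ m (b i) := by
  refine (LinearIndependent.iff_fractionRing R K).mp ?_
  let E : A →ₗ[R] (M → K) := LinearMap.pi fun m => (φ m).toLinearMap
  exact b.linearIndependent.map' E (LinearMap.ker_eq_bot.mpr hinj)

/-- Elements of a tensor product are determined by their values at pairs of points. -/
theorem eq_of_forall_eval [Module.Free R A] [Module.Finite R A] (φ : M → (A →ₐ[R] K)) (ψ : N → (B →ₐ[R] K))
    (hφ : Function.Injective fun a m => φ m a) (hψ : Function.Injective fun b n => ψ n b) {z z' : A ⊗[R] B}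
    (h : ∀ m n, Algebra.TensorProduct.lift (φ m) (ψ n) (fun _ _ => Commute.all _ _) z =
      Algebra.TensorProduct.lift (φ m) (ψ n) (fun _ _ => Commute.all _ _) z') : z = z' := by
  classical
  let b := Module.Free.chooseBasis R A
  have hind := linearIndependent_eval φ hφ b
  rw [← sub_eq_zero]
  set w := z - z' with hw
  obtain ⟨c, hc⟩ : ∃ c : Module.Free.ChooseBasisIndex R A →₀ B, w = c.sum fun i a => b i ⊗ₜ[R] a :=
    ⟨_, (TensorProduct.equivFinsuppOfBasisLeft b).symm_apply_apply w |>.symm.trans
      (TensorProduct.equivFinsuppOfBasisLeft_symm_apply b _)⟩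
  have hz : ∀ i, c i = 0 := by
    intro i
    refine hψ (funext fun n => ?_)
    show ψ n (c i) = ψ n 0
    rw [map_zero]
    refine Fintype.linearIndependent_iff.mp hind (fun i => ψ n (c i)) (funext fun m => ?_) i
    have h1 := h m n
    rw [← sub_eq_zero, ← map_sub, ← hw, hc, Finsupp.sum_fintype _ _ (fun i => by simp), map_sum] at h1
    simp only [Algebra.TensorProduct.lift_tmul] at h1
    rw [Finset.sum_apply]
    simp only [Pi.smul_apply, smul_eq_mul, Pi.zero_apply]
    refine Eq.trans ?_ h1
    exact Finset.sum_congr rfl fun l _ => mul_comm _ _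
  rw [hc, Finsupp.sum_fintype _ _ (fun i => by simp)]
  simp [hz]

/-- The rank of a full lattice of functions. -/
theorem finrank_eq_card [Module.Free R A] [Module.Finite R A] [Finite M] (φ : M → (A →ₐ[R] K))
    (hinj : Function.Injective fun a m => φ m a)
    (hsurj : ∀ f : M → K, ∃ r : R, r ≠ 0 ∧ ∃ a : A, (fun m => φ m a) = r • f) :
    Module.finrank R A = Nat.card M := by
  classical
  have := Fintype.ofFinite M
  let b := Module.Free.chooseBasis R A
  let E : A →ₗ[R] (M → K) := LinearMap.pi fun m => (φ m).toLinearMap
  have hspan : ⊤ ≤ Submodule.span K (Set.range fun i => E (b i)) := by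
    rintro f -
    obtain ⟨r, hr, a, ha⟩ := hsurj f
    have hf : f = (algebraMap R K r)⁻¹ • E a := by
      rw [show E a = r • f from ha, ← algebraMap_smul K r f, smul_smul,
        inv_mul_cancel₀ (fun h => hr (IsFractionRing.injective R K (h.trans (map_zero _).symm))), one_smul]
    rw [hf, ← b.sum_repr a, map_sum]
    refine Submodule.smul_mem _ _ (sum_mem fun i _ => ?_)
    rw [map_smul, ← algebraMap_smul K]
    exact Submodule.smul_mem _ _ (Submodule.subset_span ⟨i, rfl⟩)
  let bK := Module.Basis.mk (linearIndependent_eval φ hinj b) hspan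
  rw [Module.finrank_eq_card_basis b, Nat.card_eq_fintype_card, ← Module.finrank_eq_card_basis bK,
    Module.finrank_pi]

end Groth.Agent.Lib.SekSuwaOrd
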