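import Groth.Prelude.Def_TwC
import Groth.Agent.Lib.RedPts.BC
import Mathlib.AlgebraicGeometry.Group.Affine
import Mathlib

/-!
# An affine group with constant generic fibre as an order in the functions on a finite group
-/

set_option autoImplicit false
universe u

open CategoryTheory CategoryTheory.Limits MonoidalCategory CartesianMonoidalCategory AlgebraicGeometry
open scoped TensorProduct MonObj
open Groth.Agent.Lib.RedPts

namespace Groth.Agent.Lib.SekSuwaOrd

variable {R K A : Type u} [CommRing R] [Field K] [Algebra R K] [CommRing A] [HopfAlgebra R A]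
  {G : Over (Spec (CommRingCat.of R))} [GrpObj G]
  (ψ : G ≅ (Spec (CommRingCat.of A)).asOver (Spec (CommRingCat.of R))) [IsMonHom ψ.hom]
  {M : Type} [Group M]

local notation "j" => Spec.map (CommRingCat.ofHom (algebraMap R K))

variable (e : Red.bc (Spec.map (CommRingCat.ofHom (algebraMap R K))) G ≅ TwC.const (Spec (CommRingCat.of K)) M)

/-- `Spec K` as an `R`-scheme, mapped to the pushforward of the unit object. -/
noncomputable def unitMap :
    (Spec (CommRingCat.of K)).asOver (Spec (CommRingCat.of R)) ⟶ (Over.map j).obj (𝟙_ _) :=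
  Over.homMk (𝟙 _) (by
    show 𝟙 _ ≫ 𝟙 _ ≫ j = j
    simp)

/-- The `K`-point of index `m`. -/
noncomputable def pts (m : M) : WithConv (A →ₐ[R] K) :=
  Spec.mapMulEquiv.symm (unitMap ≫ BC.down _ (TwC.pt (Spec (CommRingCat.of K)) M m ≫ e.inv) ≫ ψ.hom)

theorem pts_mul (he : TwC.IsConstGrp M (Red.bc j G) e) (m n : M) :
    pts ψ e (m * n) = pts ψ e m * pts ψ e n := by
  rw [pts, ← he m n, BC.down_mul, MonObj.mul_comp, MonObj.comp_mul, map_mul]
  rfl

theorem pts_one (he : TwC.IsConstGrp M (Red.bc j G) e) : pts ψ e 1 = 1 := by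
  have h : TwC.pt (Spec (CommRingCat.of K)) M 1 ≫ e.inv = 1 := by
    have h1 := he 1 1
    rw [mul_one] at h1
    exact mul_eq_left.mp h1
  rw [pts, h, BC.down_one, MonObj.one_comp, MonObj.comp_one, map_one]

theorem spec_pts (m : M) :
    Spec.map (CommRingCat.ofHom (pts ψ e m).ofConv.toRingHom) =
      (TwC.pt (Spec (CommRingCat.of K)) M m ≫ e.inv).left ≫ pullback.fst _ _ ≫ ψ.hom.left := by
  have h : Spec.map (CommRingCat.ofHom (pts ψ e m).ofConv.toRingHom) =
      (unitMap ≫ BC.down _ (TwC.pt (Spec (CommRingCat.of K)) M m ≫ e.inv) ≫ ψ.hom).left := by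
    conv_rhs => rw [← Spec.mapMulEquiv.apply_symm_apply (unitMap ≫ BC.down _ (TwC.pt (Spec (CommRingCat.of K)) M m ≫ e.inv) ≫ ψ.hom)]
    rfl
  rw [h, Over.comp_left, Over.comp_left, BC.down_left]
  exact (Category.id_comp _).trans (Category.assoc _ _ _)

/-- The evaluation at all points. -/
noncomputable def ev : A →ₐ[R] (M → K) := AlgHom.pi fun m => (pts ψ e m).ofConv

@[simp] theorem ev_apply (a : A) (m : M) : ev ψ e a m = (pts ψ e m).ofConv a := rfl

theorem bijective_lift [Finite M] :
    Function.Bijective (Algebra.TensorProduct.lift (S := K) (Algebra.ofId K (ULift.{u} M → K))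
      (AlgHom.pi fun m : ULift.{u} M => (pts ψ e m.down).ofConv) fun _ _ => Commute.all _ _) := by
  classical
  let S := Spec (CommRingCat.of K)
  let Φ := Algebra.TensorProduct.lift (S := K) (Algebra.ofId K (ULift.{u} M → K))
    (AlgHom.pi fun m : ULift.{u} M => (pts ψ e m.down).ofConv) fun _ _ => Commute.all _ _
  let c : (∐ fun _ : ULift.{u} M => S) ≅ (TwC.const S M).left :=
    { hom := Sigma.desc fun i => Sigma.ι (fun _ : M => S) i.down
      inv := Sigma.desc fun m => Sigma.ι (fun _ : ULift.{u} M => S) ⟨m⟩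
      hom_inv_id := Sigma.hom_ext _ _ fun i => by simp
      inv_hom_id := Sigma.hom_ext _ _ fun i => by simp }
  let bI : (Red.bc j G).left ≅ Spec (CommRingCat.of (K ⊗[R] A)) :=
    (Over.forget _).mapIso ((Over.pullback j).mapIso ψ) ≪≫ pullbackSymmetry _ _ ≪≫ pullbackSpecIso R K A
  let eI := (Over.forget _).mapIso e
  have hb1 : bI.hom ≫ Spec.map (CommRingCat.ofHom (algebraMap K (K ⊗[R] A))) = pullback.snd G.hom j := by
    show (((Over.pullback j).map ψ.hom).left ≫ (pullbackSymmetry _ _).hom ≫ (pullbackSpecIso R K A).hom) ≫ _ = _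
    rw [Category.assoc, Category.assoc]
    refine (congrArg (fun k => ((Over.pullback j).map ψ.hom).left ≫ (pullbackSymmetry _ _).hom ≫ k)
      (pullbackSpecIso_hom_fst R K A)).trans ?_
    refine (congrArg (fun k => ((Over.pullback j).map ψ.hom).left ≫ k) (pullbackSymmetry_hom_comp_fst _ _)).trans ?_
    exact Over.w ((Over.pullback j).map ψ.hom)
  have hb2 : bI.hom ≫ Spec.map (CommRingCat.ofHom
      (Algebra.TensorProduct.includeRight : A →ₐ[R] K ⊗[R] A).toRingHom) = pullback.fst G.hom j ≫ ψ.hom.left := by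
    show (((Over.pullback j).map ψ.hom).left ≫ (pullbackSymmetry _ _).hom ≫ (pullbackSpecIso R K A).hom) ≫ _ = _
    rw [Category.assoc, Category.assoc]
    refine (congrArg (fun k => ((Over.pullback j).map ψ.hom).left ≫ (pullbackSymmetry _ _).hom ≫ k)
      (pullbackSpecIso_hom_snd R K A)).trans ?_
    refine (congrArg (fun k => ((Over.pullback j).map ψ.hom).left ≫ k) (pullbackSymmetry_hom_comp_snd _ _)).trans ?_
    exact pullback.lift_fst _ _ _
  have key : Spec.map (CommRingCat.ofHom Φ.toRingHom) =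
      inv (sigmaSpec fun _ : ULift.{u} M => CommRingCat.of K) ≫ c.hom ≫ eI.inv ≫ bI.hom := by
    rw [IsIso.eq_inv_comp]
    refine Sigma.hom_ext _ _ fun i => ?_
    rw [← Category.assoc, ι_sigmaSpec, ← Spec.map_comp, ← Category.assoc, Sigma.ι_desc,
      ← cancel_mono (pullbackSpecIso R K A).inv]
    apply pullback.hom_ext
    · rw [Category.assoc, pullbackSpecIso_inv_fst, ← Spec.map_comp, ← CommRingCat.ofHom_comp,
        Category.assoc, Category.assoc, pullbackSpecIso_inv_fst, Category.assoc]
      refine Eq.trans ?_ (congrArg (fun k => Sigma.ι (fun _ : M => S) i.down ≫ eI.inv ≫ k) hb1).symm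
      refine Eq.trans ?_ (congrArg (fun k => Sigma.ι (fun _ : M => S) i.down ≫ k)
        (Over.w e.inv : eI.inv ≫ pullback.snd G.hom j = (TwC.const S M).hom)).symm
      rw [show Sigma.ι (fun _ : M => S) i.down ≫ (TwC.const S M).hom = 𝟙 S from Sigma.ι_desc _ _,
        ← Spec.map_id]
      refine congrArg Spec.map (CommRingCat.hom_ext ?_)
      ext x
      simp [Φ]
    · rw [Category.assoc, pullbackSpecIso_inv_snd, ← Spec.map_comp, ← CommRingCat.ofHom_comp,
        Category.assoc, Category.assoc, pullbackSpecIso_inv_snd, Category.assoc]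
      refine Eq.trans ?_ (congrArg (fun k => Sigma.ι (fun _ : M => S) i.down ≫ eI.inv ≫ k) hb2).symm
      refine Eq.trans ?_ (spec_pts ψ e i.down)
      refine congrArg Spec.map (CommRingCat.hom_ext ?_)
      ext x
      simp [Φ]
  have : IsIso (Spec.map (CommRingCat.ofHom Φ.toRingHom)) := by
    have h1 : IsIso bI.hom := inferInstance
    have h2 : IsIso eI.inv := inferInstance
    rw [key]
    exact IsIso.comp_isIso' inferInstance (IsIso.comp_isIso' c.isIso_hom (IsIso.comp_isIso' h2 h1))
  have : IsIso (CommRingCat.ofHom Φ.toRingHom) := by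
    have : IsIso (Scheme.Spec.map (CommRingCat.ofHom Φ.toRingHom).op) := ‹_›
    have := isIso_of_reflects_iso (CommRingCat.ofHom Φ.toRingHom).op Scheme.Spec
    exact isIso_of_op _
  exact ConcreteCategory.bijective_of_isIso (CommRingCat.ofHom Φ.toRingHom)

theorem injective_ev [Finite M] [IsFractionRing R K] [IsDomain R] [Module.Flat R A] :
    Function.Injective (ev ψ e) := by
  intro a b hab
  have h : (1 : K) ⊗ₜ[R] a = 1 ⊗ₜ b := (bijective_lift ψ e).1 (funext fun i => by
    simpa using congrFun hab i.down)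
  exact Algebra.TensorProduct.includeRight_injective (IsFractionRing.injective R K) h

theorem exists_smul_mem [Finite M] [IsFractionRing R K] [IsDomain R] (f : M → K) :
    ∃ r : R, r ≠ 0 ∧ ∃ a : A, ev ψ e a = r • f := by
  obtain ⟨t, ht⟩ := (bijective_lift ψ e).2 fun i => f i.down
  suffices H : ∃ r : R, r ≠ 0 ∧ ∃ a : A, r • t = (1 : K) ⊗ₜ[R] a by
    obtain ⟨r, hr, a, ha⟩ := H
    refine ⟨r, hr, a, funext fun m => ?_⟩
    have h := congrArg (fun x => (Algebra.TensorProduct.lift (S := K) (Algebra.ofId K (ULift.{u} M → K))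
      (AlgHom.pi fun m : ULift.{u} M => (pts ψ e m.down).ofConv) fun _ _ => Commute.all _ _)
        x ⟨m⟩) ha
    simp only [AlgHom.map_smul_of_tower, ht] at h
    simpa using h.symm
  clear ht
  induction t using TensorProduct.induction_on with
  | zero => exact ⟨1, one_ne_zero, 0, by simp⟩
  | tmul k a =>
    obtain ⟨⟨s, r, hr⟩, h⟩ := IsLocalization.surj (nonZeroDivisors R) k
    refine ⟨r, nonZeroDivisors.ne_zero hr, s • a, ?_⟩
    rw [TensorProduct.tmul_smul, TensorProduct.smul_tmul', TensorProduct.smul_tmul', Algebra.smul_def,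
      Algebra.smul_def, mul_one, mul_comm, h]
  | add x y hx hy =>
    obtain ⟨r, hr, a, ha⟩ := hx
    obtain ⟨s, hs, b, hb⟩ := hy
    exact ⟨r * s, mul_ne_zero hr hs, s • a + r • b, by
      rw [smul_add, TensorProduct.tmul_add, TensorProduct.tmul_smul, TensorProduct.tmul_smul, ← ha, ← hb,
        smul_smul, smul_smul, mul_comm s r]⟩

include ψ e in
theorem finrank_eq [Finite M] [IsFractionRing R K] [IsDomain R] [Module.Free R A] :
    Module.finrank R A = Nat.card M := by
  have := Fintype.ofFinite M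
  have h := (LinearEquiv.ofBijective _ (bijective_lift ψ e :
    Function.Bijective (Algebra.TensorProduct.lift (S := K) (Algebra.ofId K (ULift.{u} M → K))
      (AlgHom.pi fun m : ULift.{u} M => (pts ψ e m.down).ofConv) fun _ _ => Commute.all _ _).toLinearMap)).finrank_eq
  rw [Module.finrank_baseChange, Module.finrank_pi, Fintype.card_ulift] at h
  rw [h, Nat.card_eq_fintype_card]

end Groth.Agent.Lib.SekSuwaOrd
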