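import Groth.Agent.Lib.SekSuwaOrd.Sub
import Mathlib.RingTheory.Bialgebra.Quotient

/-!
# The closure of a subgroup of order `p`
-/

set_option autoImplicit false
universe u

open scoped TensorProduct

namespace Groth.Agent.Lib.SekSuwaOrd

variable {R K A : Type u} [CommRing R] [IsDomain R] [IsDiscreteValuationRing R] [Field K] [Algebra R K]
  [IsFractionRing R K] [CommRing A] [Bialgebra R A] [Module.Finite R A]
  {M N : Type} [Group M] [Finite M] [Group N] [Finite N]
  {p : ℕ} [Fact p.Prime] [CharP (IsLocalRing.ResidueField R) p]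

/-- The closure of a cyclic subgroup of order `p` of the generic fibre is a `G_{λ,1}`. -/
theorem exists_restrict (φ : M → WithConv (A →ₐ[R] K)) (hmul : ∀ m n, φ (m * n) = φ m * φ n) (hone : φ 1 = 1)
    (hsurj : ∀ f : M → K, ∃ r : R, r ≠ 0 ∧ ∃ a : A, (fun m => (φ m).ofConv a) = r • f)
    (incl : N →* M) (hincl : Function.Injective incl)
    (χ : N →* K) (hχp : ∀ n, χ n ^ p = 1) (hχi : Function.Injective χ) (hχ1 : ∃ n, χ n ≠ 1) :
    ∃ (lam : R) (h : SekSuwa.DivCond lam p) (π : A →ₐc[R] SekSuwa.AK R lam p h)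
      (ψ : N → (SekSuwa.AK R lam p h →ₐ[R] K)), lam ≠ 0 ∧ Function.Surjective π ∧
      Function.Injective (fun a n => ψ n a) ∧ ∀ n a, ψ n (π a) = (φ (incl n)).ofConv a := by
  classical
  let E : A →ₐ[R] (N → K) := AlgHom.pi fun n => (φ (incl n)).ofConv
  let I : Ideal A := RingHom.ker E.toRingHom
  let φD : N → ((A ⧸ I) →ₐ[R] K) := fun n => Ideal.Quotient.liftₐ I (φ (incl n)).ofConv fun a ha =>
    congrFun (show E a = 0 from ha) n
  have hφD : ∀ n a, φD n (Ideal.Quotient.mk I a) = (φ (incl n)).ofConv a := fun n a => rfl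
  have hinjD : Function.Injective fun d n => φD n d := by
    intro x y hxy
    obtain ⟨a, rfl⟩ := Ideal.Quotient.mk_surjective x
    obtain ⟨b, rfl⟩ := Ideal.Quotient.mk_surjective y
    rw [Ideal.Quotient.mk_eq_mk_iff_sub_mem]
    show E (a - b) = 0
    rw [map_sub, sub_eq_zero]
    exact funext fun n => congrFun hxy n
  let E' : (A ⧸ I) →ₗ[R] (N → K) := LinearMap.pi fun n => (φD n).toLinearMap
  have : Module.IsTorsionFree R K := inferInstance
  have : Module.IsTorsionFree R (A ⧸ I) :=
    Function.Injective.moduleIsTorsionFree E' hinjD fun r x => map_smul E' r x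
  have : Module.Free R (A ⧸ I) := inferInstance
  have hco : (I.restrictScalars R).IsCoideal := by
    refine ⟨fun a ha => ?_, fun a ha => ?_⟩
    · refine IsFractionRing.injective R K ?_
      rw [map_zero, ← AlgHom.convOne_apply (A := K), ← hone, ← map_one incl]
      exact congrFun (show E a = 0 from ha) 1
    · show Algebra.TensorProduct.map (Ideal.Quotient.mkₐ R I) (Ideal.Quotient.mkₐ R I)
          (CoalgebraStruct.comul (R := R) a) = 0
      refine eq_of_forall_eval φD φD hinjD hinjD fun m n => ?_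
      rw [map_zero]
      have h1 : (φ (incl (m * n))).ofConv a = 0 := congrFun (show E a = 0 from ha) (m * n)
      rw [map_mul, hmul] at h1
      refine Eq.trans ?_ h1
      rw [show ((φ (incl m) * φ (incl n)).ofConv a) = _ from AlgHom.convMul_apply _ _ a,
        ← AlgHom.comp_apply]
      congr 1
      exact Algebra.TensorProduct.ext' fun x y => by simp [hφD]
  let φ' : N → WithConv ((A ⧸ I) →ₐ[R] K) := fun n => WithConv.toConv (φD n)
  have hmul' : ∀ m n, φ' (m * n) = φ' m * φ' n := fun m n => by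
    refine WithConv.ofConv_injective (Ideal.Quotient.algHom_ext R (AlgHom.ext fun a => ?_))
    show (φ (incl (m * n))).ofConv a = (φ' m * φ' n).ofConv (Ideal.Quotient.mk I a)
    rw [map_mul, hmul]
    refine (AlgHom.convMul_apply _ _ _).trans (Eq.trans ?_ (AlgHom.convMul_apply _ _ _).symm)
    rw [Bialgebra.Quotient.comul_mk]
    show _ = Algebra.TensorProduct.lift (φ' m).ofConv (φ' n).ofConv (fun _ _ => Commute.all _ _)
      (Algebra.TensorProduct.map (Ideal.Quotient.mkₐ R I) (Ideal.Quotient.mkₐ R I) (CoalgebraStruct.comul (R := R) a))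
    rw [← AlgHom.comp_apply]
    congr 1
    exact Algebra.TensorProduct.ext' fun x y => by simp [φ', hφD]
  have hone' : φ' 1 = 1 := by
    refine WithConv.ofConv_injective (Ideal.Quotient.algHom_ext R (AlgHom.ext fun a => ?_))
    show (φ (incl 1)).ofConv a = _
    rw [map_one, hone]
    rfl
  have hsurjD : ∀ f : N → K, ∃ r : R, r ≠ 0 ∧ ∃ d, (fun n => (φ' n).ofConv d) = r • f := fun f => by
    obtain ⟨r, hr, a, ha⟩ := hsurj (Function.extend incl f 0)
    refine ⟨r, hr, Ideal.Quotient.mk I a, funext fun n => ?_⟩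
    show (φ (incl n)).ofConv a = r • f n
    have h1 := congrFun ha (incl n)
    simp only [Pi.smul_apply, hincl.extend_apply] at h1
    exact h1
  obtain ⟨lam, h, g, hlam, hgi, hgr, -⟩ := exists_sub φ' hmul' hone' hinjD hsurjD χ hχp hχ1
  have hgb : Function.Bijective g := ⟨hgi, fun d => hgr d fun m n hmn => by rw [hχi hmn]⟩
  refine ⟨lam, h, ((BialgEquiv.ofBijective g hgb).symm.toBialgHom).comp (Bialgebra.Quotient.mkBialgHom I),
    fun n => (φD n).comp (g : SekSuwa.AK R lam p h →ₐ[R] A ⧸ I), hlam,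
    (BialgEquiv.ofBijective g hgb).symm.surjective.comp Ideal.Quotient.mk_surjective,
    fun x y hxy => hgi (hinjD (funext fun n => congrFun hxy n)), fun n a => ?_⟩
  show φD n (g ((BialgEquiv.ofBijective g hgb).symm (Ideal.Quotient.mk I a))) = _
  rw [show g ((BialgEquiv.ofBijective g hgb).symm (Ideal.Quotient.mk I a)) = Ideal.Quotient.mk I a from
    (BialgEquiv.ofBijective g hgb).apply_symm_apply _]
  rfl

end Groth.Agent.Lib.SekSuwaOrd
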