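import Groth.Agent.Lib.SekSuwaOrd.AKBasis
import Groth.Agent.Lib.SekSuwaOrd.FieldGen
import Groth.Agent.Lib.SekSuwaOrd.Pairs

/-!
# The Hopf suborder attached to a character of order `p`
-/

set_option autoImplicit false
universe u

open scoped TensorProduct
open Polynomial

namespace Groth.Agent.Lib.SekSuwaOrd

variable {R K A : Type u} [CommRing R] [IsDomain R] [IsDiscreteValuationRing R] [Field K] [Algebra R K]
  [IsFractionRing R K] [CommRing A] [Bialgebra R A] [Module.Finite R A] [Module.Free R A]
  {M : Type} [Group M] [Finite M] {p : ℕ} [Fact p.Prime] [CharP (IsLocalRing.ResidueField R) p]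

/-- The functions factoring through a character of order `p` form a `G_{μ,1}`. -/
theorem exists_sub (φ : M → WithConv (A →ₐ[R] K)) (hmul : ∀ m n, φ (m * n) = φ m * φ n) (hone : φ 1 = 1)
    (hinj : Function.Injective fun a m => (φ m).ofConv a)
    (hsurj : ∀ f : M → K, ∃ r : R, r ≠ 0 ∧ ∃ a : A, (fun m => (φ m).ofConv a) = r • f)
    (χ : M →* K) (hχp : ∀ m, χ m ^ p = 1) (hχ1 : ∃ m, χ m ≠ 1) :
    ∃ (lam : R) (h : SekSuwa.DivCond lam p) (g : SekSuwa.AK R lam p h →ₐc[R] A),
      lam ≠ 0 ∧ Function.Injective g ∧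
      (∀ a : A, (∀ m n, χ m = χ n → (φ m).ofConv a = (φ n).ofConv a) → a ∈ Set.range g) ∧
      ∀ m, algebraMap R K lam * (φ m).ofConv (g SekSuwa.AK.t) = χ m - 1 := by
  classical
  have := Fintype.ofFinite M
  have hp := (Fact.out : p.Prime)
  have hinjK : Function.Injective (algebraMap R K) := IsFractionRing.injective R K
  have hf0 : (fun m => χ m - 1) ≠ 0 := fun h => by
    obtain ⟨m, hm⟩ := hχ1
    exact hm (sub_eq_zero.mp (congrFun h m))
  obtain ⟨r, hr, a, ha⟩ := hsurj fun m => χ m - 1
  let b := Module.finBasis R A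
  -- the content of `a`
  obtain ⟨g, hg⟩ := (IsPrincipalIdealRing.principal (Ideal.span (Set.range fun i => b.repr a i))).principal
  have hmem : ∀ i, ∃ w, b.repr a i = w * g := fun i => by
    have : b.repr a i ∈ Ideal.span {g} := by
      rw [← Ideal.submodule_span_eq, ← hg]; exact Ideal.subset_span ⟨i, rfl⟩
    obtain ⟨w, hw⟩ := Ideal.mem_span_singleton'.mp this
    exact ⟨w, hw.symm⟩
  choose w hw using hmem
  let y : A := b.equivFun.symm w
  have hay : a = g • y := by
    refine b.equivFun.injective ?_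
    rw [map_smul, LinearEquiv.apply_symm_apply]
    funext i
    simp [Module.Basis.equivFun_apply, hw i, mul_comm]
  have hrK : algebraMap R K r ≠ 0 := fun h => hr (hinjK (h.trans (map_zero _).symm))
  have hg0 : g ≠ 0 := by
    rintro rfl
    apply hf0
    rw [zero_smul] at hay
    funext m
    have h1 := congrFun ha m
    simp only [hay, map_zero, Pi.smul_apply, Algebra.smul_def] at h1
    exact (mul_eq_zero.mp h1.symm).resolve_left hrK
  have hy : ∃ i, w i ∉ IsLocalRing.maximalIdeal R := by
    by_contra hall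
    push Not at hall
    have : g ∈ Ideal.span (Set.range fun i => b.repr a i) := by
      rw [hg, Ideal.submodule_span_eq]; exact Ideal.mem_span_singleton_self g
    have h2 : Ideal.span (Set.range fun i => b.repr a i) ≤ IsLocalRing.maximalIdeal R * Ideal.span {g} := by
      rw [Ideal.span_le]
      rintro _ ⟨i, rfl⟩
      show b.repr a i ∈ _
      rw [hw i]
      exact Ideal.mul_mem_mul (hall i) (Ideal.mem_span_singleton_self g)
    obtain ⟨z, hz, hz'⟩ := Ideal.mem_mul_span_singleton.mp (h2 this)
    have : z = 1 := mul_right_cancel₀ hg0 (hz'.trans (one_mul g).symm)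
    exact (IsLocalRing.maximalIdeal.isMaximal R).ne_top ((Ideal.eq_top_iff_one _).mpr (this ▸ hz))
  obtain ⟨i₀, hi₀⟩ := hy
  let c : K := algebraMap R K g / algebraMap R K r
  have hc0 : c ≠ 0 := div_ne_zero (fun h => hg0 (hinjK (h.trans (map_zero _).symm))) hrK
  have hcy : ∀ m, c * (φ m).ofConv y = χ m - 1 := fun m => by
    have h1 := congrFun ha m
    simp only [hay, map_smul, Pi.smul_apply, Algebra.smul_def, map_mul, AlgHom.commutes] at h1
    rw [div_mul_eq_mul_div, h1, mul_div_cancel_left₀ _ hrK]
  have hlaw : ∀ m n, (φ (m * n)).ofConv y =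
      (φ m).ofConv y + (φ n).ofConv y + c * ((φ m).ofConv y * (φ n).ofConv y) := fun m n => by
    refine mul_left_cancel₀ hc0 ?_
    linear_combination hcy (m * n) + map_mul χ m n - hcy m - hcy n -
      (c * (φ n).ofConv y) * hcy m - (χ m - 1) * hcy n
  let D : A ⊗[R] A := CoalgebraStruct.comul (R := R) y - y ⊗ₜ[R] 1 - 1 ⊗ₜ[R] y
  have hD : ∀ m n, Algebra.TensorProduct.lift (φ m).ofConv (φ n).ofConv (fun _ _ => Commute.all _ _) D =
      c * ((φ m).ofConv y * (φ n).ofConv y) := fun m n => by
    simp only [D, map_sub, Algebra.TensorProduct.lift_tmul, map_one, mul_one, one_mul]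
    rw [show Algebra.TensorProduct.lift (φ m).ofConv (φ n).ofConv (fun _ _ => Commute.all _ _)
      (CoalgebraStruct.comul (R := R) y) = (φ (m * n)).ofConv y by rw [hmul]; exact (AlgHom.convMul_apply _ _ _).symm,
      hlaw]
    ring
  obtain ⟨lam, hlam⟩ : ∃ lam, algebraMap R K lam = c := by
    rcases ValuationRing.isInteger_or_isInteger R c with ⟨s, hs⟩ | ⟨s, hs⟩
    · exact ⟨s, hs⟩
    · by_cases hu : IsUnit s
      · refine ⟨↑hu.unit⁻¹, ?_⟩
        have h1 : algebraMap R K ↑hu.unit⁻¹ * c⁻¹ = 1 := by
          rw [← hs, ← map_mul, hu.val_inv_mul, map_one]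
        field_simp at h1
        exact h1
      · exfalso
        have hD' : s • D = y ⊗ₜ[R] y := eq_of_forall_eval (fun m => (φ m).ofConv) (fun m => (φ m).ofConv) hinj hinj fun m n => by
          rw [map_smul, hD, Algebra.TensorProduct.lift_tmul, Algebra.smul_def, hs]
          field_simp
        have h3 := congrArg (fun z => (b.tensorProduct b).repr z (i₀, i₀)) hD'
        simp only [map_smul, Finsupp.smul_apply, smul_eq_mul, Module.Basis.tensorProduct_repr_tmul_apply] at h3
        have hrep : b.repr y i₀ = w i₀ := by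
          rw [← Module.Basis.equivFun_apply, LinearEquiv.apply_symm_apply]
        rw [hrep] at h3
        have : w i₀ * w i₀ ∈ IsLocalRing.maximalIdeal R := h3 ▸ Ideal.mul_mem_right _ _ hu
        exact hi₀ (((IsLocalRing.maximalIdeal.isMaximal R).isPrime.mem_or_mem this).elim id id)
  have hlam0 : lam ≠ 0 := fun h => hc0 (by rw [← hlam, h, map_zero])
  have hΔ : CoalgebraStruct.comul (R := R) y = y ⊗ₜ[R] 1 + 1 ⊗ₜ[R] y + lam • (y ⊗ₜ[R] y) := by
    have : D = lam • (y ⊗ₜ[R] y) := eq_of_forall_eval (fun m => (φ m).ofConv) (fun m => (φ m).ofConv) hinj hinj fun m n => by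
      rw [map_smul, hD, Algebra.TensorProduct.lift_tmul, Algebra.smul_def, hlam]
    rw [← this]
    simp only [D]
    abel
  have hε : CoalgebraStruct.counit (R := R) y = 0 := by
    refine hinjK ?_
    rw [map_zero, ← AlgHom.convOne_apply (A := K), ← hone]
    have h1 := hcy 1
    rw [map_one, sub_self] at h1
    exact (mul_eq_zero.mp h1).resolve_left hc0
  have hup : (1 + lam • y) ^ p = 1 := hinj (funext fun m => by
    show (φ m).ofConv ((1 + lam • y) ^ p) = (φ m).ofConv 1
    rw [map_pow, map_add, map_smul, map_one, Algebra.smul_def, hlam, hcy, add_sub_cancel, hχp])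
  -- the special fibre
  let k := IsLocalRing.ResidueField R
  let yb : k ⊗[R] A := 1 ⊗ₜ[R] y
  have hyb : yb ≠ 0 := fun h => hi₀ (by
    have h1 := congrArg (fun z => (Algebra.TensorProduct.basis k b).repr z i₀) h
    simp only [yb, Algebra.TensorProduct.basis_repr_tmul, map_zero, Finsupp.coe_zero, Pi.zero_apply] at h1
    rw [← IsLocalRing.residue_eq_zero_iff]
    have hrep : b.repr y i₀ = w i₀ := by
      rw [← Module.Basis.equivFun_apply, LinearEquiv.apply_symm_apply]
    rw [one_smul, Finsupp.mapRange_apply, hrep] at h1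
    exact h1)
  have hε' : CoalgebraStruct.counit (R := k) yb = 0 := by
    simp [yb, hε]
  have hΔ' : CoalgebraStruct.comul (R := k) yb =
      yb ⊗ₜ[k] 1 + 1 ⊗ₜ[k] yb + algebraMap R k lam • (yb ⊗ₜ[k] yb) := by
    simp only [yb, TensorProduct.comul_tmul, hΔ, Bialgebra.comul_one, TensorProduct.tmul_add,
      TensorProduct.tmul_smul, algebraMap_smul, map_add, LinearMap.map_smul_of_tower,
      Algebra.TensorProduct.one_def]
    simp [TensorProduct.smul_tmul']
  have hind : LinearIndependent k fun i : Fin p => yb ^ (i : ℕ) := by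
    rcases eq_or_ne (algebraMap R k lam) 0 with h | h
    · exact linearIndependent_primitive yb hyb hε' (by rw [hΔ', h, zero_smul, add_zero])
    · refine linearIndependent_multiplicative _ h yb hyb hε' hΔ' ?_
      have h1 := congrArg (Algebra.TensorProduct.includeRight : A →ₐ[R] k ⊗[R] A) hup
      rw [map_pow, map_add, map_smul, map_one] at h1
      rw [algebraMap_smul]
      exact h1
  let L : (Fin p → R) →ₗ[R] A := Fintype.linearCombination R fun i : Fin p => y ^ (i : ℕ)
  have hL : ∀ cf, L cf = ∑ i, cf i • y ^ (i : ℕ) := fun cf => rfl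
  obtain ⟨ρ, hρ⟩ : ∃ ρ : A →ₗ[R] Fin p → R, ρ ∘ₗ L = LinearMap.id := by
    refine (IsLocalRing.split_injective_iff_lTensor_residueField_injective L).mpr ?_
    let bk := Algebra.TensorProduct.basis k (Pi.basisFun R (Fin p))
    have hcomp : (L.baseChange k) ∘ bk = fun i : Fin p => yb ^ (i : ℕ) := funext fun i => by
      simp [bk, L, yb, Algebra.TensorProduct.tmul_pow, Fintype.linearCombination_apply, Pi.single_apply]
    show Function.Injective (L.baseChange k)
    rw [← LinearMap.ker_eq_bot, eq_bot_iff]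
    intro v hv
    rw [LinearMap.mem_ker, ← bk.sum_repr v, map_sum] at hv
    simp only [map_smul, show ∀ i, L.baseChange k (bk i) = yb ^ (i : ℕ) from fun i => congrFun hcomp i] at hv
    rw [Submodule.mem_bot, ← bk.forall_coord_eq_zero_iff]
    exact fun i => Fintype.linearIndependent_iff.mp hind _ hv i
  have hLρ : ∀ (r : R) (a : A), r ≠ 0 → r • a ∈ LinearMap.range L → a = L (ρ a) := by
    rintro r a hr ⟨cf, hcf⟩
    have h1 : r • ρ a = cf := by
      rw [← map_smul, ← hcf]; exact LinearMap.congr_fun hρ cf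
    refine hinj (funext fun m => ?_)
    have h2 : r • a = r • L (ρ a) := by rw [← hcf, ← h1, map_smul]
    have h3 := congrArg (φ m).ofConv h2
    rw [map_smul, map_smul, Algebra.smul_def, Algebra.smul_def] at h3
    exact mul_left_cancel₀ (fun h => hr (hinjK (h.trans (map_zero _).symm))) h3
  have hfac : ∀ a : A, (∀ m n, χ m = χ n → (φ m).ofConv a = (φ n).ofConv a) → a = L (ρ a) := by
    intro a ha'
    let T : Finset K := Finset.univ.image χ
    let F : K → K := fun x => if hx : ∃ m, χ m = x then (φ hx.choose).ofConv a else 0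
    have hF : ∀ m, F (χ m) = (φ m).ofConv a := fun m => by
      have hx : ∃ n, χ n = χ m := ⟨m, rfl⟩
      simp only [F, dif_pos hx]
      exact ha' _ _ hx.choose_spec
    have hT : T.card ≤ p := by
      refine le_trans (Finset.card_le_card (t := (Polynomial.nthRoots p (1 : K)).toFinset) fun x hx => ?_) ?_
      · obtain ⟨m, -, rfl⟩ := Finset.mem_image.mp hx
        rw [Multiset.mem_toFinset, Polynomial.mem_nthRoots hp.pos]
        exact hχp m
      · exact (Multiset.toFinset_card_le _).trans (Polynomial.card_nthRoots p 1)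
    let q : K[X] := (Lagrange.interpolate T id F).comp (1 + C c * X)
    have hq : ∀ m, q.eval ((φ m).ofConv y) = (φ m).ofConv a := fun m => by
      simp only [q, eval_comp, eval_add, eval_one, eval_mul, eval_C, eval_X, hcy, add_sub_cancel]
      rw [← hF m]
      exact Lagrange.eval_interpolate_at_node F (fun x _ y _ h => h) (Finset.mem_image.mpr ⟨m, Finset.mem_univ _, rfl⟩)
    have hqd : q.natDegree < p := by
      refine lt_of_le_of_lt natDegree_comp_le ?_
      have h1 : (1 + C c * X : K[X]).natDegree ≤ 1 :=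
        (natDegree_add_le _ _).trans (max_le (by simp) ((natDegree_C_mul_le _ _).trans natDegree_X_le))
      have h2 : (Lagrange.interpolate T id F).natDegree < p := by
        rcases eq_or_ne (Lagrange.interpolate T id F) 0 with h | h
        · rw [h, natDegree_zero]; exact hp.pos
        · rw [natDegree_lt_iff_degree_lt h]
          exact lt_of_lt_of_le (Lagrange.degree_interpolate_lt F fun x _ y _ h => h) (by exact_mod_cast hT)
      exact lt_of_le_of_lt (Nat.mul_le_mul_left _ h1) (by rwa [mul_one])
    obtain ⟨⟨s, hs⟩, hsq⟩ := IsLocalization.exist_integer_multiples_of_finite (nonZeroDivisors R)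
      fun i : Fin p => q.coeff i
    choose cf hcf using hsq
    refine hLρ s a (nonZeroDivisors.ne_zero hs) ⟨cf, hinj (funext fun m => ?_)⟩
    simp only [hL, map_sum, map_smul, map_pow]
    rw [← hq m, eval_eq_sum_range' hqd, ← Fin.sum_univ_eq_sum_range (fun i => q.coeff i * (φ m).ofConv y ^ i),
      Finset.smul_sum]
    refine Finset.sum_congr rfl fun i _ => ?_
    rw [Algebra.smul_def, hcf i, smul_mul_assoc]
  have hli : LinearIndependent R fun i : Fin p => y ^ (i : ℕ) :=
    Fintype.linearIndependent_iff.mpr fun cf hcf i => by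
      have h1 := LinearMap.congr_fun hρ cf
      rw [LinearMap.comp_apply, hL, hcf, map_zero] at h1
      exact (congrFun h1 i).symm
  have hyp : ∀ m n, χ m = χ n → (φ m).ofConv y = (φ n).ofConv y := fun m n h =>
    mul_left_cancel₀ hc0 (by rw [hcy, hcy, h])
  have hyp' : y ^ p = L (ρ (y ^ p)) := hfac _ fun m n h => by rw [map_pow, map_pow, hyp m n h]
  -- the divisibility
  let P : R[X] := X ^ p - ∑ i : Fin p, C (ρ (y ^ p) i) * X ^ (i : ℕ)
  have hP : aeval y P = 0 := by
    simp only [P, map_sub, map_pow, aeval_X, map_sum, map_mul, aeval_C]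
    rw [sub_eq_zero]
    conv_lhs => rw [hyp', hL]
    simp [Algebra.smul_def]
  have hPc : ∀ i, p ≤ i → P.coeff i = if i = p then 1 else 0 := fun i hi => by
    simp only [P, coeff_sub, coeff_X_pow, finsetSum_coeff, coeff_C_mul]
    rw [Finset.sum_eq_zero fun l _ => by rw [if_neg (by omega), mul_zero], sub_zero]
  let Q : R[X] := (1 + C lam * X) ^ p - 1 - C (lam ^ p) * P
  have hQc : ∀ i, p ≤ i → Q.coeff i = 0 := fun i hi => by
    simp only [Q, coeff_sub, coeff_C_mul, hPc i hi]
    have := coeff_aux (lam := lam) (N := p) i (by have := hp.pos; omega)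
    rw [coeff_sub] at this
    rw [this]
    split_ifs with h
    · subst h; simp
    · rw [Nat.choose_eq_zero_of_lt (by omega)]; simp
  have hQ : Q = 0 := by
    have hQy : aeval y Q = 0 := by
      simp only [Q, map_sub, map_pow, map_add, map_one, map_mul, aeval_C, aeval_X, hP, mul_zero, sub_zero]
      rw [← Algebra.smul_def, hup, sub_self]
    have hd : Q.natDegree < p := by
      by_contra h
      push Not at h
      have h1 : Q ≠ 0 := fun h0 => by simp [h0] at h; have := hp.pos; omega
      exact (leadingCoeff_ne_zero.mpr h1) (hQc _ h)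
    rw [aeval_eq_sum_range' hd, ← Fin.sum_univ_eq_sum_range (fun i => Q.coeff i • y ^ i)] at hQy
    ext i
    rcases lt_or_ge i p with h | h
    · simpa using Fintype.linearIndependent_iff.mp hli _ hQy ⟨i, h⟩
    · simpa using hQc i h
  have hdiv : SekSuwa.DivCond lam p := ⟨mem_nonZeroDivisors_of_ne_zero hlam0, P, (sub_eq_zero.mp hQ).symm⟩
  have hPpsi : P = SekSuwa.psiPoly lam p hdiv := SekSuwa.psiPoly_unique hdiv (sub_eq_zero.mp hQ).symm
  -- the comparison
  have hrel : (1 + lam • y) * (1 + lam • y) ^ (p - 1) = 1 :=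
    (pow_succ' _ _).symm.trans ((congrArg ((1 + lam • y) ^ ·) (Nat.sub_add_cancel hp.pos)).trans hup)
  let f₀ := SekSuwa.A.lift R lam y _ hrel
  let f : SekSuwa.AK R lam p hdiv →ₐ[R] A := Ideal.Quotient.liftₐ (SekSuwa.kerIdeal lam p hdiv) f₀ (fun z hz => by
    obtain ⟨d, rfl⟩ := Ideal.mem_span_singleton'.mp hz
    rw [map_mul, SekSuwa.kerGen, ← aeval_algHom_apply, SekSuwa.A.lift_t, ← hPpsi, hP, mul_zero])
  have hft : f SekSuwa.AK.t = y := SekSuwa.A.lift_t _ _ hrel
  have hfi : Function.Injective f := by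
    rw [injective_iff_map_eq_zero]
    intro z hz
    rw [← (basisPow hdiv hp.pos).sum_repr z, map_sum] at hz
    simp only [map_smul, basisPow_apply, map_pow, hft] at hz
    rw [← (basisPow hdiv hp.pos).forall_coord_eq_zero_iff]
    exact fun i => Fintype.linearIndependent_iff.mp hli _ hz i
  have hfu : f (1 + lam • SekSuwa.AK.t) = 1 + lam • y := by rw [map_add, map_one, map_smul, hft]
  have hcomul_u : CoalgebraStruct.comul (R := R) (1 + lam • y) = (1 + lam • y) ⊗ₜ[R] (1 + lam • y) := by
    rw [map_add, map_smul, hΔ, Bialgebra.comul_one]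
    simp only [Algebra.TensorProduct.one_def, TensorProduct.add_tmul, TensorProduct.tmul_add, smul_add,
      TensorProduct.smul_tmul', TensorProduct.tmul_smul, smul_smul]
    abel
  refine ⟨lam, hdiv, BialgHom.ofAlgHom f ?_ ?_, hlam0, hfi, fun a ha' => ?_, fun m => ?_⟩
  · refine SekSuwa.AK.algHom_ext ?_ ?_
    · rw [AlgHom.comp_apply, Bialgebra.counitAlgHom_apply, Bialgebra.counitAlgHom_apply]
      show CoalgebraStruct.counit (R := R) (f SekSuwa.AK.t) = _
      rw [hft, hε, SekSuwa.AK.counit_t]
    · rw [AlgHom.comp_apply, Bialgebra.counitAlgHom_apply, Bialgebra.counitAlgHom_apply]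
      show CoalgebraStruct.counit (R := R) (f SekSuwa.AK.inv) = _
      rw [inv_eq hdiv hp.pos, map_pow, hfu, Bialgebra.counit_pow, map_add, map_smul, hε, smul_zero, add_zero,
        Bialgebra.counit_one, one_pow, ← inv_eq hdiv hp.pos, SekSuwa.AK.counit_inv]
  · refine SekSuwa.AK.algHom_ext ?_ ?_
    · show Algebra.TensorProduct.map f f (CoalgebraStruct.comul (R := R) _) =
        CoalgebraStruct.comul (R := R) (f SekSuwa.AK.t)
      rw [hft, hΔ, SekSuwa.AK.comul_t]
      simp [hft]
    · show Algebra.TensorProduct.map f f (CoalgebraStruct.comul (R := R) _) =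
        CoalgebraStruct.comul (R := R) (f SekSuwa.AK.inv)
      rw [SekSuwa.AK.comul_inv, Algebra.TensorProduct.map_tmul, inv_eq hdiv hp.pos, map_pow, hfu,
        Bialgebra.comul_pow, hcomul_u, Algebra.TensorProduct.tmul_pow]

  · refine ⟨∑ i : Fin p, ρ a i • SekSuwa.AK.t ^ (i : ℕ), ?_⟩
    show f _ = a
    simp only [map_sum, map_smul, map_pow, hft]
    rw [← hL]
    exact (hfac a ha').symm
  · show algebraMap R K lam * (φ m).ofConv (f SekSuwa.AK.t) = χ m - 1
    rw [hft, hlam]
    exact hcy m

end Groth.Agent.Lib.SekSuwaOrd
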